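import Cfsg.Agent.Lib.Comp.HN.AltD

set_option maxRecDepth 100000

namespace Cfsg.Lib.Comp.HN

open Cfsg.Spor Cfsg.Lib.Linear

theorem z_ne : ev gam [1, 1] ≠ 1 := fun h => by
  have := main.1
  exact bot_ne_top (normal_top gam_iv gam_rel gam_top nc ⊥ inferInstance h)

theorem alt : ∃ A : Subgroup Spor.HN, A.index = 1140000 ∧ Nonempty (A ≃* alternatingGroup (Fin 12)) := by
  obtain ⟨φ, hφ⟩ := exists_hom_moore (moore_of_rels (n := 10) aR (by decide +kernel))
  have hi : Function.Injective φ := inj_of_simple (alternatingGroup.isSimpleGroup (by simp)) (g := mooreGen 10 1) (by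
    rw [hφ]
    exact (ev_congr' (u := [1, 1]) fun x hx => gm_gam x (by revert x; decide)).trans_ne z_ne)
  refine ⟨φ.range, ?_, ⟨(MonoidHom.ofInjective hi).symm⟩⟩
  have h1 := φ.range.index_mul_card
  have h2 := two_mul_nat_card_alternatingGroup (α := Fin (10 + 2))
  rw [Nat.card_perm, Nat.card_eq_fintype_card (α := Fin (10 + 2)), Fintype.card_fin,
    Nat.card_congr (MonoidHom.ofInjective hi).toEquiv, show Nat.factorial (10 + 2) = 2 * 239500800 by decide +kernel] at h2
  rw [main.2, Nat.eq_of_mul_eq_mul_left (by norm_num) h2] at h1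
  omega

end Cfsg.Lib.Comp.HN
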