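import Cfsg.Agent.Lib.Comp.HN.Gm

set_option maxRecDepth 100000
set_option Elab.async false

namespace Cfsg.Lib.Comp.HN

universe u

noncomputable def aV : List (List ℕ) := [[68,66,70,66,1,1,6,1,5,6,76,65,68,72,2],
 [1,1],
 [68,68,64,75,1,5,6,2,5,6,66,3,74,78,1,1],
 [73,70,81,73,2,93,4],
 [3,78,66,75,80,1,5],
 [72,66,66,72,1,5],
 [69,69,72,68,1,5],
 [68,71,68,72,1,5],
 [66,70,69,67,1,5],
 [66,66,66,1,5]]

theorem aR0 : ev (sv gm aV) [0] ^ (2 + 1) = 1 :=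
  gm_rel (r := ([0],2)) (c := [([([0,0],289,[68,66,70,66]),
 ([],295,[72,69,64,75]),
 ([],302,[68,66,70,66]),
 ([12],310,[70,4,78,78]),
 ([127,120],303,[76,3,65,4]),
 ([],294,[3,64,70,4,75])],[1,43,41,41,43]),
 ([([],294,[68,66,70,66]),
 ([4,1],289,[72,69,64,75]),
 ([],293,[68,66,70,66]),
 ([],296,[72,69,64,75]),
 ([12],306,[3,74,78,66,68]),
 ([],292,[70,82,82,4])],[75,75,79,77,8]),
 ([([],297,[3,75,65,75,65]),
 ([12],306,[4,69,75,70]),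
 ([],296,[74,82,80,77]),
 ([12],305,[75,4,77,3]),
 ([12],310,[68,79,79,79]),
 ([127,28],303,[4,66,72,68,78])],[71,74,6,9]),
 ([([76,9,70],298,[3,79,71,74,82]),
 ([12,87,12],312,[67,82,73,75]),
 ([],377,[4,75,4,71]),
 ([95,14],336,[78,71,82,3]),
 ([109,105],330,[71,4,71,79]),
 ([100],324,[73,68,79])],[71,7,71,78,8]),
 ([([],297,[4,82,70,80]),
 ([13],308,[3,66,73,79,74]),
 ([],325,[70,74,71,80]),
 ([],356,[4,79,65,81,68]),
 ([],358,[3,76,67,74]),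
 ([],303,[70,3,81,73])],[9,70,70,75,6,6])]) (by decide +kernel)

theorem aR1 : ev (sv gm aV) [1] ^ (1 + 1) = 1 :=
  gm_rel (r := ([1],1)) (c := [([],[]),
 ([],[]),
 ([],[]),
 ([],[]),
 ([],[])]) (by decide +kernel)

theorem aR2 : ev (sv gm aV) [2] ^ (1 + 1) = 1 :=
  gm_rel (r := ([2],1)) (c := [([([4,0],289,[81,69,69,65]),
 ([],296,[68,68,64,75]),
 ([12],309,[72,67,72,69]),
 ([],294,[4,4,73,3,68])],[55,51,46,39]),
 ([([],295,[81,69,69,65]),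
 ([26],302,[4,65,65,4,70]),
 ([12],306,[3,71,3,73,80]),
 ([],293,[3,75,80,66,76])],[77,7,74,6,72]),
 ([([],292,[81,69,69,65]),
 ([],291,[68,68,64,75]),
 ([],292,[71,73,68,75]),
 ([70,7],291,[71,74,74,81])],[6,76,73,73,70]),
 ([([72,6],300,[69,71,82]),
 ([95,15],347,[67,69,3,70]),
 ([116],369,[3,68,64,70,81]),
 ([82],317,[65,76,67,70])],[9,70,75,78,8]),
 ([([75,73],299,[77,4,79,81]),
 ([108],327,[68,78,76,70]),
 ([20],324,[68,81,4,75]),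
 ([78,74],291,[3,68,79,74])],[7,75,76,7,9])]) (by decide +kernel)

theorem aR3 : ev (sv gm aV) [3] ^ (1 + 1) = 1 :=
  gm_rel (r := ([3],1)) (c := [([],[]),
 ([],[]),
 ([],[]),
 ([],[]),
 ([],[])]) (by decide +kernel)

theorem aR4 : ev (sv gm aV) [4] ^ (1 + 1) = 1 :=
  gm_rel (r := ([4],1)) (c := [([],[]),
 ([],[]),
 ([],[]),
 ([],[]),
 ([],[])]) (by decide +kernel)

theorem aR5 : ev (sv gm aV) [5] ^ (1 + 1) = 1 :=
  gm_rel (r := ([5],1)) (c := [([],[]),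
 ([],[]),
 ([],[]),
 ([],[]),
 ([],[])]) (by decide +kernel)

theorem aR6 : ev (sv gm aV) [6] ^ (1 + 1) = 1 :=
  gm_rel (r := ([6],1)) (c := [([],[]),
 ([],[]),
 ([],[]),
 ([],[]),
 ([],[])]) (by decide +kernel)

theorem aR7 : ev (sv gm aV) [7] ^ (1 + 1) = 1 :=
  gm_rel (r := ([7],1)) (c := [([],[]),
 ([],[]),
 ([],[]),
 ([],[]),
 ([],[])]) (by decide +kernel)

theorem aR8 : ev (sv gm aV) [8] ^ (1 + 1) = 1 :=
  gm_rel (r := ([8],1)) (c := [([],[]),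
 ([],[]),
 ([],[]),
 ([],[]),
 ([],[])]) (by decide +kernel)

theorem aR9 : ev (sv gm aV) [9] ^ (1 + 1) = 1 :=
  gm_rel (r := ([9],1)) (c := [([],[]),
 ([],[]),
 ([],[]),
 ([],[]),
 ([],[])]) (by decide +kernel)

theorem aR10 : ev (sv gm aV) [0,1] ^ (2 + 1) = 1 :=
  gm_rel (r := ([0,1],2)) (c := [([([0,0],289,[68,66,70,66]),
 ([],295,[72,69,64,75]),
 ([127,120],302,[3,82,69,75]),
 ([12],310,[67,82,3,77]),
 ([],303,[4,74,70,64,73]),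
 ([],294,[3,80,78,70,82])],[0,40,45,40]),
 ([([],294,[68,66,70,66]),
 ([4,1],289,[72,69,64,75]),
 ([],292,[68,66,70,66]),
 ([],297,[3,66,78,3,82]),
 ([12],309,[3,74,78,66,68]),
 ([],290,[70,82,82,4])],[75,75,79,77,8]),
 ([([],297,[3,75,65,75,65]),
 ([12],306,[4,69,75,70]),
 ([],295,[74,82,80,77]),
 ([127,28],302,[4,66,71,81]),
 ([12],305,[66,72,68]),
 ([12],309,[65,67,74,75])],[7,73,74,9,7,7]),
 ([([76,9,70],298,[3,79,71,74,82]),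
 ([12,87,12],312,[67,82,73,75]),
 ([112,22],354,[67,65,74,66]),
 ([],371,[75,68,76,3]),
 ([18,105],330,[3,68,76,76]),
 ([100],324,[68,68,66,80])],[70,9,6,78,76]),
 ([([],297,[4,82,70,80]),
 ([13],308,[3,66,73,79,74]),
 ([101,18],325,[73,81,73,70]),
 ([110],361,[3,74,78,68]),
 ([],355,[68,76,80,69]),
 ([12],309,[3,71,68,3,80])],[76,71,77,9,74])]) (by decide +kernel)

theorem aR11 : ev (sv gm aV) [0,2] ^ (1 + 1) = 1 :=
  gm_rel (r := ([0,2],1)) (c := [([([0,0],289,[68,66,70,66]),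
 ([],295,[72,69,64,75]),
 ([127,28],303,[74,67,81,66]),
 ([],290,[74,67,81,66]),
 ([],292,[69,79,70,79]),
 ([],297,[3,3,75,81,3]),
 ([],309,[74,67,81,66]),
 ([],294,[74,67,81,66])],[50,38,45,43]),
 ([([],294,[68,66,70,66]),
 ([4,1],289,[72,69,64,75]),
 ([],291,[81,69,69,65]),
 ([],292,[80,78,3,68]),
 ([],293,[71,73,67,82]),
 ([78,74],296,[69,81,69,3]),
 ([],306,[80,73,64]),
 ([],293,[64,72,65,81])],[70,70,8,75,71]),
 ([([],297,[3,75,65,75,65]),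
 ([12],306,[4,69,75,70]),
 ([],290,[72,67,72,69]),
 ([],297,[3,78,75,72,78]),
 ([],310,[3,80,68,78,68]),
 ([127,28],303,[4,66,71,72,81]),
 ([],292,[68,64,81,64]),
 ([],291,[68,66,72,67])],[70,74,72,74,72]),
 ([([76,9,70],298,[3,79,71,74,82]),
 ([12,87,12],312,[67,82,73,75]),
 ([22],369,[72,78,81,3]),
 ([82],316,[4,73,64,81]),
 ([],328,[3,69,80,65,67]),
 ([108,21],333,[3,82,66,69,64]),
 ([111,24],369,[3,64,79,77,68]),
 ([82],317,[3,71,80,64,74])],[73,77,8,78,7]),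
 ([([],297,[4,82,70,80]),
 ([13],308,[3,66,73,79,74]),
 ([],324,[74,74,64,69]),
 ([6,70,6],297,[3,72,77,71,75]),
 ([],310,[72,74,4,79]),
 ([120,125,126],301,[3,75,65,71,79]),
 ([20],324,[4,77,72,80]),
 ([78,74],291,[68,65,79,74])],[70,72,74,8,7])]) (by decide +kernel)

theorem aR12 : ev (sv gm aV) [0,3] ^ (1 + 1) = 1 :=
  gm_rel (r := ([0,3],1)) (c := [([([0,0],289,[68,66,70,66]),
 ([],295,[72,69,64,75]),
 ([122,120],303,[69,67,70,66]),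
 ([],294,[64,71,76,77])],[56,62,48,2,48,46,2]),
 ([([],294,[68,66,70,66]),
 ([4,1],289,[72,69,64,75]),
 ([76,9],295,[77,71,80]),
 ([129,28],303,[4,64,79])],[79,72,75,70,6]),
 ([([],297,[3,75,65,75,65]),
 ([12],306,[4,69,75,70]),
 ([77,9,6],298,[75,82,73,69]),
 ([82],317,[3,69,64,80,74])],[77,74,70,7,77]),
 ([([76,9,70],298,[3,79,71,74,82]),
 ([12,87,12],312,[67,82,73,75]),
 ([110,25],370,[76,81,64,66]),
 ([],340,[76,74,75,67])],[76,75,9,74,7]),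
 ([([],297,[4,82,70,80]),
 ([13],308,[3,66,73,79,74]),
 ([106,18],323,[79,78,76,79]),
 ([],317,[3,3,75,73,67])],[9,79,6,74,6])]) (by decide +kernel)

theorem aR13 : ev (sv gm aV) [0,4] ^ (1 + 1) = 1 :=
  gm_rel (r := ([0,4],1)) (c := [([([0,0],289,[68,66,70,66]),
 ([],295,[72,69,64,75]),
 ([26],303,[3,64,76,64,76]),
 ([],294,[69,66,69,69])],[57,67,39,56,44]),
 ([([],294,[68,66,70,66]),
 ([4,1],289,[72,69,64,75]),
 ([],297,[67,77,77,66]),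
 ([12],306,[78,74,82,79])],[75,75,79,77,8]),
 ([([],297,[3,75,65,75,65]),
 ([12],306,[4,69,75,70]),
 ([],294,[69,76,4,64]),
 ([4,1],289,[3,74,78,71,71])],[73,78,7,72,6]),
 ([([76,9,70],298,[3,79,71,74,82]),
 ([12,87,12],312,[67,82,73,75]),
 ([22],370,[69,3,74,78]),
 ([],340,[80,66,82,77])],[77,78,74,77,70]),
 ([([],297,[4,82,70,80]),
 ([13],308,[3,66,73,79,74]),
 ([],319,[68,4,65,79]),
 ([81],317,[68,81,3,71])],[8,6,9,73,6])]) (by decide +kernel)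

theorem aR14 : ev (sv gm aV) [0,5] ^ (1 + 1) = 1 :=
  gm_rel (r := ([0,5],1)) (c := [([([0,0],289,[68,66,70,66]),
 ([],295,[72,69,64,75]),
 ([26],303,[66,70,66,66]),
 ([],294,[67,68,68,70])],[57,67,39,56,44]),
 ([([],294,[68,66,70,66]),
 ([4,1],289,[72,69,64,75]),
 ([],297,[3,71,64,71,78]),
 ([12],306,[78,67,74,69])],[75,75,79,77,8]),
 ([([],297,[3,75,65,75,65]),
 ([12],306,[4,69,75,70]),
 ([],294,[74,67,76,77]),
 ([4,1],289,[78,75,66,73])],[73,78,7,72,6]),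
 ([([76,9,70],298,[3,79,71,74,82]),
 ([12,87,12],312,[67,82,73,75]),
 ([22],370,[64,71,81,66]),
 ([],340,[64,69,67,79])],[77,78,74,77,70]),
 ([([],297,[4,82,70,80]),
 ([13],308,[3,66,73,79,74]),
 ([],319,[3,67,68,80,76]),
 ([81],317,[3,82,77,64,3])],[8,6,9,73,6])]) (by decide +kernel)

theorem aR15 : ev (sv gm aV) [0,6] ^ (1 + 1) = 1 :=
  gm_rel (r := ([0,6],1)) (c := [([([0,0],289,[68,66,70,66]),
 ([],295,[72,69,64,75]),
 ([26],303,[67,69,71]),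
 ([],294,[3,81,80,72,80])],[57,67,39,56,44]),
 ([([],294,[68,66,70,66]),
 ([4,1],289,[72,69,64,75]),
 ([],297,[4,81,3,79]),
 ([12],306,[69,69,66])],[75,75,79,77,8]),
 ([([],297,[3,75,65,75,65]),
 ([12],306,[4,69,75,70]),
 ([],294,[69,70,72,67]),
 ([4,1],289,[71,72,67])],[73,78,7,72,6]),
 ([([76,9,70],298,[3,79,71,74,82]),
 ([12,87,12],312,[67,82,73,75]),
 ([22],370,[67,70,69,67]),
 ([],340,[65,80,77,64])],[77,78,74,77,70]),
 ([([],297,[4,82,70,80]),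
 ([13],308,[3,66,73,79,74]),
 ([],319,[4,79,70,69]),
 ([81],317,[3,3,75,65])],[8,6,9,73,6])]) (by decide +kernel)

theorem aR16 : ev (sv gm aV) [0,7] ^ (1 + 1) = 1 :=
  gm_rel (r := ([0,7],1)) (c := [([([0,0],289,[68,66,70,66]),
 ([],295,[72,69,64,75]),
 ([26],303,[67,68,72]),
 ([],294,[67,71,68])],[57,67,39,56,44]),
 ([([],294,[68,66,70,66]),
 ([4,1],289,[72,69,64,75]),
 ([],297,[4,70,67,65]),
 ([12],306,[3,65,69,71,81])],[75,75,79,77,8]),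
 ([([],297,[3,75,65,75,65]),
 ([12],306,[4,69,75,70]),
 ([],294,[4,70,66,74]),
 ([4,1],289,[73,76,3,77])],[73,78,7,72,6]),
 ([([76,9,70],298,[3,79,71,74,82]),
 ([12,87,12],312,[67,82,73,75]),
 ([22],370,[70,67,68,71]),
 ([],340,[65,70,82,74])],[77,78,74,77,70]),
 ([([],297,[4,82,70,80]),
 ([13],308,[3,66,73,79,74]),
 ([],319,[4,79,71]),
 ([81],317,[4,4,78,82,4])],[8,6,9,73,6])]) (by decide +kernel)

theorem aR17 : ev (sv gm aV) [0,8] ^ (1 + 1) = 1 :=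
  gm_rel (r := ([0,8],1)) (c := [([([0,0],289,[68,66,70,66]),
 ([],295,[72,69,64,75]),
 ([26],303,[73,66,75,81]),
 ([],294,[64,64,78,74])],[57,67,39,56,44]),
 ([([],294,[68,66,70,66]),
 ([4,1],289,[72,69,64,75]),
 ([],297,[3,66,72,73,65]),
 ([12],306,[3,82,66,75])],[75,75,79,77,8]),
 ([([],297,[3,75,65,75,65]),
 ([12],306,[4,69,75,70]),
 ([],294,[3,77,68,77,74]),
 ([4,1],289,[3,81,72,81,66])],[73,78,7,72,6]),
 ([([76,9,70],298,[3,79,71,74,82]),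
 ([12,87,12],312,[67,82,73,75]),
 ([22],370,[64,73,81,75,71]),
 ([],340,[65,4,81,77])],[77,78,74,77,70]),
 ([([],297,[4,82,70,80]),
 ([13],308,[3,66,73,79,74]),
 ([],319,[3,3,82,79,3]),
 ([81],317,[3,70,72,74,71])],[8,6,9,73,6])]) (by decide +kernel)

theorem aR18 : ev (sv gm aV) [0,9] ^ (1 + 1) = 1 :=
  gm_rel (r := ([0,9],1)) (c := [([([0,0],289,[68,66,70,66]),
 ([],295,[72,69,64,75]),
 ([26],303,[3,71,67,67,81]),
 ([],294,[4,70,73,65])],[57,67,39,56,44]),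
 ([([],294,[68,66,70,66]),
 ([4,1],289,[72,69,64,75]),
 ([],297,[4,70,66,68,77]),
 ([12],306,[70,82,82,4])],[75,75,79,77,8]),
 ([([],297,[3,75,65,75,65]),
 ([12],306,[4,69,75,70]),
 ([],294,[74,82,80,77]),
 ([4,1],289,[4,69,75,70])],[73,78,7,72,6]),
 ([([76,9,70],298,[3,79,71,74,82]),
 ([12,87,12],312,[67,82,73,75]),
 ([22],370,[3,68,82,65]),
 ([],340,[65,4,66,76])],[77,78,74,77,70]),
 ([([],297,[4,82,70,80]),
 ([13],308,[3,66,73,79,74]),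
 ([],319,[74,82,82,78]),
 ([81],317,[78,69,66,74])],[8,6,9,73,6])]) (by decide +kernel)

theorem aR19 : ev (sv gm aV) [1,2] ^ (2 + 1) = 1 :=
  gm_rel (r := ([1,2],2)) (c := [([([4,1],289,[81,69,69,65]),
 ([],296,[68,68,64,75]),
 ([12],305,[72,67,72,69]),
 ([12],305,[71,66,66,71]),
 ([12],309,[70,67,76,65]),
 ([],294,[66,76,65,71])],[53,49,2,40]),
 ([([],296,[81,69,69,65]),
 ([12],309,[66,71,71,67]),
 ([],290,[71,76,65,68]),
 ([],297,[68,68,76,4]),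
 ([12],306,[3,68,82,65,67]),
 ([],293,[4,65,72,67,80])],[72,75,6,77,72]),
 ([([],293,[81,69,69,65]),
 ([],295,[68,68,64,75]),
 ([127,28],302,[68,64,77,82]),
 ([12],306,[71,66,70]),
 ([],292,[3,76,73,79]),
 ([],291,[71,66,70])],[9,76,7,74,6]),
 ([([77,6,72],300,[4,76,64,73]),
 ([90,17],347,[69,74,65,65]),
 ([116],370,[4,74,71,71]),
 ([98,16],347,[4,66,79,66,82]),
 ([110,25],369,[3,73,73,73,3]),
 ([82],317,[65,76,69,66])],[73,9,7,79,75]),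
 ([([74,6,8],299,[67,65,73,82]),
 ([101,18],325,[3,78,76,66,82]),
 ([110],361,[69,64,75,71]),
 ([],351,[67,82,64,76]),
 ([],324,[3,64,81,65]),
 ([78,74],291,[4,82,82,3,79])],[79,7,79,79,70])]) (by decide +kernel)

theorem aR20 : ev (sv gm aV) [1,3] ^ (1 + 1) = 1 :=
  gm_rel (r := ([1,3],1)) (c := [([],[]),
 ([],[]),
 ([],[]),
 ([],[]),
 ([],[])]) (by decide +kernel)

theorem aR21 : ev (sv gm aV) [1,4] ^ (1 + 1) = 1 :=
  gm_rel (r := ([1,4],1)) (c := [([],[]),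
 ([],[]),
 ([],[]),
 ([],[]),
 ([],[])]) (by decide +kernel)

theorem aR22 : ev (sv gm aV) [1,5] ^ (1 + 1) = 1 :=
  gm_rel (r := ([1,5],1)) (c := [([],[]),
 ([],[]),
 ([],[]),
 ([],[]),
 ([],[])]) (by decide +kernel)

theorem aR23 : ev (sv gm aV) [1,6] ^ (1 + 1) = 1 :=
  gm_rel (r := ([1,6],1)) (c := [([],[]),
 ([],[]),
 ([],[]),
 ([],[]),
 ([],[])]) (by decide +kernel)

theorem aR24 : ev (sv gm aV) [1,7] ^ (1 + 1) = 1 :=
  gm_rel (r := ([1,7],1)) (c := [([],[]),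
 ([],[]),
 ([],[]),
 ([],[]),
 ([],[])]) (by decide +kernel)

theorem aR25 : ev (sv gm aV) [1,8] ^ (1 + 1) = 1 :=
  gm_rel (r := ([1,8],1)) (c := [([],[]),
 ([],[]),
 ([],[]),
 ([],[]),
 ([],[])]) (by decide +kernel)

theorem aR26 : ev (sv gm aV) [1,9] ^ (1 + 1) = 1 :=
  gm_rel (r := ([1,9],1)) (c := [([],[]),
 ([],[]),
 ([],[]),
 ([],[]),
 ([],[])]) (by decide +kernel)

theorem aR27 : ev (sv gm aV) [2,3] ^ (2 + 1) = 1 :=
  gm_rel (r := ([2,3],2)) (c := [([([4,0],289,[81,69,69,65]),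
 ([],296,[68,68,64,75]),
 ([],313,[3,66,64,77,65]),
 ([100],319,[76,67,78]),
 ([],309,[3,68,72,73,65]),
 ([],294,[67,70,66,66])],[3,68,1,50,49,40,50]),
 ([([],295,[81,69,69,65]),
 ([26],302,[4,65,65,4,70]),
 ([81],317,[70,4,72,73]),
 ([72,6],297,[72,4,80,82]),
 ([87,10],317,[3,64,72,81,64]),
 ([75,7],291,[76,4,82,79])],[75,9,77,9,7]),
 ([([],292,[81,69,69,65]),
 ([],291,[68,68,64,75]),
 ([9,6],296,[66,73,64,68]),
 ([12],316,[73,68,68,80]),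
 ([20],328,[3,77,79,69]),
 ([20],324,[65,79,77,67])],[6,76,9,75,6]),
 ([([72,6],300,[69,71,82]),
 ([95,15],347,[67,69,3,70]),
 ([25,117],379,[64,77,4,65]),
 ([112,22],379,[78,73,75,74]),
 ([24,110],376,[65,80,67,71]),
 ([14],340,[81,77,71,71])],[78,78,73,74,74]),
 ([([75,73],299,[77,4,79,81]),
 ([108],327,[68,78,76,70]),
 ([100],319,[3,70,3,77,69]),
 ([82,11,11],314,[3,67,75,67,68]),
 ([24],365,[70,66,70,70]),
 ([20],324,[3,72,73,80])],[70,8,73,73])]) (by decide +kernel)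

theorem aR28 : ev (sv gm aV) [2,4] ^ (1 + 1) = 1 :=
  gm_rel (r := ([2,4],1)) (c := [([([4,0],289,[81,69,69,65]),
 ([],296,[68,68,64,75]),
 ([],309,[3,3,74,71,82]),
 ([],294,[66,70,66,70,70])],[4,0]),
 ([([],295,[81,69,69,65]),
 ([26],302,[4,65,65,4,70]),
 ([],310,[72,4,4,74]),
 ([26],303,[4,73,67,73,69])],[9,78,76,70,8]),
 ([([],292,[81,69,69,65]),
 ([],291,[68,68,64,75]),
 ([70,7],291,[64,75,71,72]),
 ([],292,[70,81,68,73])],[6,76,73,73,70]),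
 ([([72,6],300,[69,71,82]),
 ([95,15],347,[67,69,3,70]),
 ([],376,[64,76,82,65]),
 ([14],340,[64,73,65,81,71])],[75,6,76,9,6]),
 ([([75,73],299,[77,4,79,81]),
 ([108],327,[68,78,76,70]),
 ([],327,[69,77,76,80]),
 ([],324,[67,70,77,70])],[70,6,8,78])]) (by decide +kernel)

theorem aR29 : ev (sv gm aV) [2,5] ^ (1 + 1) = 1 :=
  gm_rel (r := ([2,5],1)) (c := [([([4,0],289,[81,69,69,65]),
 ([],296,[68,68,64,75]),
 ([],309,[78,69,3,78]),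
 ([],294,[66,64,75,66])],[4,0]),
 ([([],295,[81,69,69,65]),
 ([26],302,[4,65,65,4,70]),
 ([],310,[4,81,76,76,72]),
 ([26],303,[69,71,67])],[9,78,76,70,8]),
 ([([],292,[81,69,69,65]),
 ([],291,[68,68,64,75]),
 ([70,7],291,[72,69,64,75]),
 ([],292,[71,73,67,82])],[6,76,73,73,70]),
 ([([72,6],300,[69,71,82]),
 ([95,15],347,[67,69,3,70]),
 ([],376,[78,81,79]),
 ([14],340,[74,69,77,65])],[75,6,76,9,6]),
 ([([75,73],299,[77,4,79,81]),
 ([108],327,[68,78,76,70]),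
 ([],327,[3,81,79,64,80]),
 ([],324,[3,81,74,74,82])],[70,6,8,78])]) (by decide +kernel)

theorem aR30 : ev (sv gm aV) [2,6] ^ (1 + 1) = 1 :=
  gm_rel (r := ([2,6],1)) (c := [([([4,0],289,[81,69,69,65]),
 ([],296,[68,68,64,75]),
 ([],309,[77,4,64,78]),
 ([],294,[82,4,77,68])],[4,0]),
 ([([],295,[81,69,69,65]),
 ([26],302,[4,65,65,4,70]),
 ([],310,[72,68,73]),
 ([26],303,[68,68,66,69])],[9,78,76,70,8]),
 ([([],292,[81,69,69,65]),
 ([],291,[68,68,64,75]),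
 ([70,7],291,[78,70,74,76]),
 ([],292,[4,65,73,76])],[6,76,73,73,70]),
 ([([72,6],300,[69,71,82]),
 ([95,15],347,[67,69,3,70]),
 ([],376,[82,64,71,67]),
 ([14],340,[65,4,74,76])],[75,6,76,9,6]),
 ([([75,73],299,[77,4,79,81]),
 ([108],327,[68,78,76,70]),
 ([],327,[3,3,78,70,81]),
 ([],324,[64,76,72,74,77])],[70,6,8,78])]) (by decide +kernel)

theorem aR31 : ev (sv gm aV) [2,7] ^ (1 + 1) = 1 :=
  gm_rel (r := ([2,7],1)) (c := [([([4,0],289,[81,69,69,65]),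
 ([],296,[68,68,64,75]),
 ([],309,[73,73,77,68]),
 ([],294,[76,65,67,69])],[4,0]),
 ([([],295,[81,69,69,65]),
 ([26],302,[4,65,65,4,70]),
 ([],310,[71,3,74,72]),
 ([26],303,[69,67,68,66])],[9,78,76,70,8]),
 ([([],292,[81,69,69,65]),
 ([],291,[68,68,64,75]),
 ([70,7],291,[4,66,69,74,76]),
 ([],292,[73,69,71,67])],[6,76,73,73,70]),
 ([([72,6],300,[69,71,82]),
 ([95,15],347,[67,69,3,70]),
 ([],376,[79,68,75,4]),
 ([14],340,[64,76,77,70,73])],[75,6,76,9,6]),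
 ([([75,73],299,[77,4,79,81]),
 ([108],327,[68,78,76,70]),
 ([],327,[76,66,68]),
 ([],324,[3,66,66,68,75])],[70,6,8,78])]) (by decide +kernel)

theorem aR32 : ev (sv gm aV) [2,8] ^ (1 + 1) = 1 :=
  gm_rel (r := ([2,8],1)) (c := [([([4,0],289,[81,69,69,65]),
 ([],296,[68,68,64,75]),
 ([],309,[77,77,76,68]),
 ([],294,[3,82,3,69])],[4,0]),
 ([([],295,[81,69,69,65]),
 ([26],302,[4,65,65,4,70]),
 ([],310,[3,3,74,81,65]),
 ([26],303,[3,70,3,77,81])],[9,78,76,70,8]),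
 ([([],292,[81,69,69,65]),
 ([],291,[68,68,64,75]),
 ([70,7],291,[69,67,67,68]),
 ([],292,[67,81,67,71])],[6,76,73,73,70]),
 ([([72,6],300,[69,71,82]),
 ([95,15],347,[67,69,3,70]),
 ([],376,[66,79,82,66]),
 ([14],340,[3,71,73,82,69])],[75,6,76,9,6]),
 ([([75,73],299,[77,4,79,81]),
 ([108],327,[68,78,76,70]),
 ([],327,[3,77,73,66]),
 ([],324,[82,79,4,79])],[70,6,8,78])]) (by decide +kernel)

theorem aR33 : ev (sv gm aV) [2,9] ^ (1 + 1) = 1 :=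
  gm_rel (r := ([2,9],1)) (c := [([([4,0],289,[81,69,69,65]),
 ([],296,[68,68,64,75]),
 ([],309,[70,66,70,70]),
 ([],294,[3,3,79,3,82])],[4,0]),
 ([([],295,[81,69,69,65]),
 ([26],302,[4,65,65,4,70]),
 ([],310,[73,65,82,69]),
 ([26],303,[74,80,4,79])],[9,78,76,70,8]),
 ([([],292,[81,69,69,65]),
 ([],291,[68,68,64,75]),
 ([70,7],291,[66,71,72,67]),
 ([],292,[3,78,78,68,80])],[6,76,73,73,70]),
 ([([72,6],300,[69,71,82]),
 ([95,15],347,[67,69,3,70]),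
 ([],376,[79,75,73,69]),
 ([14],340,[81,66,78,64])],[75,6,76,9,6]),
 ([([75,73],299,[77,4,79,81]),
 ([108],327,[68,78,76,70]),
 ([],327,[71,77,65,80]),
 ([],324,[3,3,79,75,79])],[70,6,8,78])]) (by decide +kernel)

theorem aR34 : ev (sv gm aV) [3,4] ^ (2 + 1) = 1 :=
  gm_rel (r := ([3,4],2)) (c := [([],[]),
 ([],[]),
 ([],[]),
 ([],[]),
 ([],[])]) (by decide +kernel)

theorem aR35 : ev (sv gm aV) [3,5] ^ (1 + 1) = 1 :=
  gm_rel (r := ([3,5],1)) (c := [([],[]),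
 ([],[]),
 ([],[]),
 ([],[]),
 ([],[])]) (by decide +kernel)

theorem aR36 : ev (sv gm aV) [3,6] ^ (1 + 1) = 1 :=
  gm_rel (r := ([3,6],1)) (c := [([],[]),
 ([],[]),
 ([],[]),
 ([],[]),
 ([],[])]) (by decide +kernel)

theorem aR37 : ev (sv gm aV) [3,7] ^ (1 + 1) = 1 :=
  gm_rel (r := ([3,7],1)) (c := [([],[]),
 ([],[]),
 ([],[]),
 ([],[]),
 ([],[])]) (by decide +kernel)

theorem aR38 : ev (sv gm aV) [3,8] ^ (1 + 1) = 1 :=
  gm_rel (r := ([3,8],1)) (c := [([],[]),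
 ([],[]),
 ([],[]),
 ([],[]),
 ([],[])]) (by decide +kernel)

theorem aR39 : ev (sv gm aV) [3,9] ^ (1 + 1) = 1 :=
  gm_rel (r := ([3,9],1)) (c := [([],[]),
 ([],[]),
 ([],[]),
 ([],[]),
 ([],[])]) (by decide +kernel)

theorem aR40 : ev (sv gm aV) [4,5] ^ (2 + 1) = 1 :=
  gm_rel (r := ([4,5],2)) (c := [([],[]),
 ([],[]),
 ([],[]),
 ([],[]),
 ([],[])]) (by decide +kernel)

theorem aR41 : ev (sv gm aV) [4,6] ^ (1 + 1) = 1 :=
  gm_rel (r := ([4,6],1)) (c := [([],[]),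
 ([],[]),
 ([],[]),
 ([],[]),
 ([],[])]) (by decide +kernel)

theorem aR42 : ev (sv gm aV) [4,7] ^ (1 + 1) = 1 :=
  gm_rel (r := ([4,7],1)) (c := [([],[]),
 ([],[]),
 ([],[]),
 ([],[]),
 ([],[])]) (by decide +kernel)

theorem aR43 : ev (sv gm aV) [4,8] ^ (1 + 1) = 1 :=
  gm_rel (r := ([4,8],1)) (c := [([],[]),
 ([],[]),
 ([],[]),
 ([],[]),
 ([],[])]) (by decide +kernel)

theorem aR44 : ev (sv gm aV) [4,9] ^ (1 + 1) = 1 :=
  gm_rel (r := ([4,9],1)) (c := [([],[]),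
 ([],[]),
 ([],[]),
 ([],[]),
 ([],[])]) (by decide +kernel)

theorem aR45 : ev (sv gm aV) [5,6] ^ (2 + 1) = 1 :=
  gm_rel (r := ([5,6],2)) (c := [([],[]),
 ([],[]),
 ([],[]),
 ([],[]),
 ([],[])]) (by decide +kernel)

theorem aR46 : ev (sv gm aV) [5,7] ^ (1 + 1) = 1 :=
  gm_rel (r := ([5,7],1)) (c := [([],[]),
 ([],[]),
 ([],[]),
 ([],[]),
 ([],[])]) (by decide +kernel)

theorem aR47 : ev (sv gm aV) [5,8] ^ (1 + 1) = 1 :=
  gm_rel (r := ([5,8],1)) (c := [([],[]),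
 ([],[]),
 ([],[]),
 ([],[]),
 ([],[])]) (by decide +kernel)

theorem aR48 : ev (sv gm aV) [5,9] ^ (1 + 1) = 1 :=
  gm_rel (r := ([5,9],1)) (c := [([],[]),
 ([],[]),
 ([],[]),
 ([],[]),
 ([],[])]) (by decide +kernel)

theorem aR49 : ev (sv gm aV) [6,7] ^ (2 + 1) = 1 :=
  gm_rel (r := ([6,7],2)) (c := [([],[]),
 ([],[]),
 ([],[]),
 ([],[]),
 ([],[])]) (by decide +kernel)

theorem aR50 : ev (sv gm aV) [6,8] ^ (1 + 1) = 1 :=
  gm_rel (r := ([6,8],1)) (c := [([],[]),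
 ([],[]),
 ([],[]),
 ([],[]),
 ([],[])]) (by decide +kernel)

theorem aR51 : ev (sv gm aV) [6,9] ^ (1 + 1) = 1 :=
  gm_rel (r := ([6,9],1)) (c := [([],[]),
 ([],[]),
 ([],[]),
 ([],[]),
 ([],[])]) (by decide +kernel)

theorem aR52 : ev (sv gm aV) [7,8] ^ (2 + 1) = 1 :=
  gm_rel (r := ([7,8],2)) (c := [([],[]),
 ([],[]),
 ([],[]),
 ([],[]),
 ([],[])]) (by decide +kernel)

theorem aR53 : ev (sv gm aV) [7,9] ^ (1 + 1) = 1 :=
  gm_rel (r := ([7,9],1)) (c := [([],[]),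
 ([],[]),
 ([],[]),
 ([],[]),
 ([],[])]) (by decide +kernel)

theorem aR54 : ev (sv gm aV) [8,9] ^ (2 + 1) = 1 :=
  gm_rel (r := ([8,9],2)) (c := [([],[]),
 ([],[]),
 ([],[]),
 ([],[]),
 ([],[])]) (by decide +kernel)

theorem aR : Rels (sv gm aV) (apd [([0],2),
 ([1],1),
 ([2],1),
 ([3],1),
 ([4],1),
 ([5],1),
 ([6],1),
 ([7],1),
 ([8],1),
 ([9],1),
 ([0,1],2),
 ([0,2],1),
 ([0,3],1),
 ([0,4],1),
 ([0,5],1),
 ([0,6],1),
 ([0,7],1),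
 ([0,8],1),
 ([0,9],1),
 ([1,2],2),
 ([1,3],1),
 ([1,4],1),
 ([1,5],1),
 ([1,6],1),
 ([1,7],1),
 ([1,8],1),
 ([1,9],1),
 ([2,3],2),
 ([2,4],1),
 ([2,5],1),
 ([2,6],1),
 ([2,7],1),
 ([2,8],1),
 ([2,9],1),
 ([3,4],2),
 ([3,5],1),
 ([3,6],1),
 ([3,7],1),
 ([3,8],1),
 ([3,9],1)]
 [([4,5],2),
 ([4,6],1),
 ([4,7],1),
 ([4,8],1),
 ([4,9],1),
 ([5,6],2),
 ([5,7],1),
 ([5,8],1),
 ([5,9],1),
 ([6,7],2),
 ([6,8],1),
 ([6,9],1),
 ([7,8],2),
 ([7,9],1),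
 ([8,9],2)]) :=
  (Rels.cons aR0 (Rels.cons aR1 (Rels.cons aR2 (Rels.cons aR3 (Rels.cons aR4 (Rels.cons aR5 (Rels.cons aR6 (Rels.cons aR7 (Rels.cons aR8 (Rels.cons aR9 (Rels.cons aR10 (Rels.cons aR11 (Rels.cons aR12 (Rels.cons aR13 (Rels.cons aR14 (Rels.cons aR15 (Rels.cons aR16 (Rels.cons aR17 (Rels.cons aR18 (Rels.cons aR19 (Rels.cons aR20 (Rels.cons aR21 (Rels.cons aR22 (Rels.cons aR23 (Rels.cons aR24 (Rels.cons aR25 (Rels.cons aR26 (Rels.cons aR27 (Rels.cons aR28 (Rels.cons aR29 (Rels.cons aR30 (Rels.cons aR31 (Rels.cons aR32 (Rels.cons aR33 (Rels.cons aR34 (Rels.cons aR35 (Rels.cons aR36 (Rels.cons aR37 (Rels.cons aR38 (Rels.cons aR39 (Rels.cons aR40 (Rels.cons aR41 (Rels.cons aR42 (Rels.cons aR43 (Rels.cons aR44 (Rels.cons aR45 (Rels.cons aR46 (Rels.cons aR47 (Rels.cons aR48 (Rels.cons aR49 (Rels.cons aR50 (Rels.cons aR51 (Rels.cons aR52 (Rels.cons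 aR53 (Rels.cons aR54 (Rels.nil _))))))))))))))))))))))))))))))))))))))))))))))))))))))))

end Cfsg.Lib.Comp.HN
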