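import Cfsg.Agent.Lib.Comp.Fast

set_option maxRecDepth 100000
set_option Elab.async false

namespace Cfsg.Lib.Comp.HN

universe u

def iv : ℕ → ℕ := (fun x => look (nat_lit 0xffef7cefae78df6d74cf2c70beeb6caeaa689e69648e28607de75c6da6585d65544d24503ce34c2ca248187143101080) 6 x)

noncomputable def R : List (List ℕ × ℕ) := [([3],5),
 ([1,1,3,1,1,4],0),
 ([2,4,1,3],2),
 ([2,3,3,1,3,3,3],2),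
 ([1,3],7),
 ([1,3,1,3,3,3],3),
 ([5],1),
 ([5,1],1),
 ([5,3,2,4,4,2,4,2,4,5,3,1,3,1,3,3,1,4,2,2],0),
 ([5,4,2,4,2,4,4,4,5,3,3,3,1,3,1,3,1,4,2,4,2,4,4,4,5,3,3,3,1,3,1,3,1,4,2,4,2,4,4,4,5,3,3,3,1,3,1,3,1],0),
 ([6],4),
 ([2,6,1,6,6],0),
 ([7,4,6,3],0),
 ([5,6],2),
 ([1,2],0),
 ([3,4],0),
 ([6,7],0)]

def L : List ℕ := [1,2,3,4,5,6,7]

noncomputable def RQ : List (List ℕ × ℕ) := [([3],5),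
 ([1,1,3,1,1,4],0),
 ([2,4,1,3],2),
 ([2,3,3,1,3,3,3],2),
 ([1,3],7),
 ([1,3,1,3,3,3],3),
 ([1,2],0),
 ([3,4],0)]

noncomputable def RN : List (List ℕ × ℕ) := [([3],5),
 ([1,1,3,1,1,4],0),
 ([2,4,1,3],2),
 ([2,3,3,1,3,3,3],2),
 ([1,3],7),
 ([1,3,1,3,3,3],3),
 ([5],1),
 ([5,1],1),
 ([5,3,2,4,4,2,4,2,4,5,3,1,3,1,3,3,1,4,2,2],0),
 ([5,4,2,4,2,4,4,4,5,3,3,3,1,3,1,3,1,4,2,4,2,4,4,4,5,3,3,3,1,3,1,3,1,4,2,4,2,4,4,4,5,3,3,3,1,3,1,3,1],0),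
 ([1,2],0),
 ([3,4],0)]

def LN : List ℕ := [1,2,3,4,5]

end Cfsg.Lib.Comp.HN
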