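import Cfsg.Agent.Lib.Comp.HN.Main
import Cfsg.Agent.Lib.Comp.Sym7

set_option maxRecDepth 100000

namespace Cfsg.Lib.Comp.HN

open Cfsg.Spor

theorem gm_ex : ∃ (e : cl (gp HNn.nets) HNn.L ≃* cl gam LN) (γ : ℕ → Spor.HN), (∀ a ∈ L, γ a = gam a) ∧
    (∀ a ∈ HNn.Lc, γ a = e (sval _ (gp HNn.nets) a)) ∧ ∀ w c, bpB HNn.tb HNn.B HNn.Lc HNn.civ HNn.L0 HNn.al HNn.xF 390
      (prg 6 7 HNn.j1 HNn.j2 w) ((0, []) :: mapL (fun u => (1, u)) HNn.bU) c = true → ev γ w = 1 := by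
  obtain ⟨f, hf, -, hi, -, -, h0, ⟨e, he⟩, -⟩ := act
  let γ : ℕ → Spor.HN := fun a => if a = 6 ∨ a = 7 then gam a else e (sval _ (gp HNn.nets) a)
  have h1 : ∀ a, f (γ a) = HNn.dl a := fun a => by
    by_cases h : a = 6 ∨ a = 7
    · rw [show γ a = _ from if_pos h]
      exact hf a (by rcases h with rfl | rfl <;> decide)
    · rw [show γ a = _ from if_neg h, he]
      rw [not_or] at h
      exact ((if_neg h.1).trans (if_neg h.2)).symm
  refine ⟨e, γ, fun a ha => hi ((h1 a).trans (hf a ha).symm), fun a ha => if_neg (by revert a; decide +kernel),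
    fun w c h => one_of_bp HNn.ctl HNn.b_fix HNn.bU_ok h0 he fun z hz => ?_⟩
  rw [map_ev_of_gen fun a _ => h1 a]
  exact bpB_sound HNn.ctl HNn.sg_semi HNn.sg_F HNn.sg_J h z hz

noncomputable def ne : cl (gp HNn.nets) HNn.L ≃* cl gam LN := gm_ex.choose

noncomputable def gm : ℕ → Spor.HN := gm_ex.choose_spec.choose

theorem gm_gam : ∀ a ∈ L, gm a = gam a := gm_ex.choose_spec.choose_spec.1

theorem gm_ne : ∀ a ∈ HNn.Lc, gm a = ne (sval _ (gp HNn.nets) a) := gm_ex.choose_spec.choose_spec.2.1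

theorem gm_rel {V : List (List ℕ)} {r : List ℕ × ℕ} {c : List (List (List ℕ × ℕ × List ℕ) × List ℕ)}
    (h : bpB HNn.tb HNn.B HNn.Lc HNn.civ HNn.L0 HNn.al HNn.xF 390 (prg 6 7 HNn.j1 HNn.j2 (xpd V (fullW r)))
      ((0, []) :: mapL (fun u => (1, u)) HNn.bU) c = true) : ev (sv gm V) r.1 ^ (r.2 + 1) = 1 := by
  rw [← ev_fullW, ← ev_xpd]
  exact gm_ex.choose_spec.choose_spec.2.2 _ _ h

end Cfsg.Lib.Comp.HN
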