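import Cfsg.Agent.Lib.Comp.HN.Main

namespace Cfsg.Lib.Comp.HN

open Cfsg.Spor

theorem xyz : (Subgroup.closure ({Spor.HN.x, Spor.HN.y, Spor.HN.z} : Set (FreeGroup Spor.HN.Gen))).map
    (PresentedGroup.mk (coxRelators Spor.HN.edges ∪ {r | r ∈ Spor.HN.extra})) = cl gam LN := by
  have h := ok.map_closure hall [Spor.HN.x, Spor.HN.y, Spor.HN.z]
  rw [show List.map _ _ = [1, 3, 5].map fun x => [x] by decide +kernel, cl_eq_clw] at h
  rw [show ({Spor.HN.x, Spor.HN.y, Spor.HN.z} : Set _) = {s | s ∈ [Spor.HN.x, Spor.HN.y, Spor.HN.z]} by ext; simp, h,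
    ← cl_congr2 fun x hx => gam_ex.choose_spec.2.2.2.1 x (by revert x; decide +kernel)]
  refine le_antisymm (cl_mono (by decide +kernel)) (cl_le.2 fun a ha => ?_)
  have h2 : gam 2 = (gam 1)⁻¹ := (gam_iv.2 1 (by norm_num)).2
  have h4 : gam 4 = (gam 3)⁻¹ := (gam_iv.2 3 (by norm_num)).2
  simp only [LN, List.mem_cons, List.not_mem_nil, or_false] at ha
  rcases ha with rfl | rfl | rfl | rfl | rfl
  exacts [mem_cl (by simp), h2 ▸ Subgroup.inv_mem _ (mem_cl (by simp)), mem_cl (by simp),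
    h4 ▸ Subgroup.inv_mem _ (mem_cl (by simp)), mem_cl (by simp)]

end Cfsg.Lib.Comp.HN
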