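import Cfsg.Agent.Lib.Comp.HN.HsD
import Cfsg.Agent.Lib.Comp.HN.Gm
import Cfsg.Agent.Lib.Comp.HN.Sub

set_option maxRecDepth 100000

namespace Cfsg.Lib.Comp.HN

open Cfsg.Spor Cfsg.Lib.Mult Subgroup

theorem hd_le : cl hd HSx.L ≤ cl (gp HNn.nets) HNn.L := cl_le.2 fun x _ => sv_mem HNn.ctl.hL hV_ok x

/-- The double cover of the Higman–Sims group. -/
noncomputable def K : Subgroup (cl gam LN) := ((cl hd HSx.L).subgroupOf _).map ne.toMonoidHom

theorem mem_K {a : ℕ} (ha : a ∈ LN) {w : List ℕ} (hw : ∀ x ∈ w, x ∈ HSx.L) (h : ev hd w = ev (gp HNn.nets) [a]) :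
    (⟨gam a, mem_cl ha⟩ : cl gam LN) ∈ K := by
  have h1 : a ∈ HNn.Lc := by clear h; revert a; decide +kernel
  refine ⟨sval _ (gp HNn.nets) a, ?_, Subtype.ext ((gm_ne a h1).symm.trans (gm_gam a (by clear h h1; revert a; decide)))⟩
  rw [SetLike.mem_coe, mem_subgroupOf, coe_sval (HNn.ctl.hL a h1), ← ev_single (gp HNn.nets), ← h]
  exact ev_mem fun x hx => mem_cl (hw x hx)

theorem K_stem : K.index = 2 ∧ Group.IsPerfect K ∧ ∃ σ : K →* Spor.HS, IsStemExtension σ ∧ Nat.card σ.ker = 2 := by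
  obtain ⟨ε⟩ := HSx.perm
  have := Cfsg.Lib.Leech.simple_sHS
  have := Cfsg.Lib.Leech.hsEquiv.symm.isSimpleGroup
  have := ε.symm.isSimpleGroup
  obtain ⟨σ, h1, h2⟩ := stem_of (HSx.nets_iv.sval _) (HSx.nets_rel.sval fun r hr x hx =>
    mem_cl ((hd_ok.2.2.1 r hr).1 x hx)) HSx.ord HSx.lb (cl_sval_top _ HSx.L) hd_rel hd_ok hd_z hd_c (x := 1) (y := 3)
    (by decide) (by decide) hd_ne
  let e : K ≃* cl hd HSx.L := (ne.subgroupMap _).symm.trans (subgroupOfEquivOfLe hd_le)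
  have h3 := equiv_comp_stem (stem_comp_equiv h1 e) ε.symm
  have h4 : Nat.card σ.ker * 44352000 = Nat.card (cl hd HSx.L) := by
    rw [← σ.ker.card_mul_index, index_ker, MonoidHom.range_eq_top.2 h1.1, card_top, HSx.card]
  have h5 := K.index_mul_card
  rw [Nat.card_congr e.toEquiv, ← h4, h2, hd_o, ← Nat.card_congr ne.toEquiv, HNn.card] at h5
  refine ⟨Nat.eq_of_mul_eq_mul_right (by norm_num) (h5.trans (by norm_num)), perfect_of_stem h3 ⟨?_⟩, _, h3, ?_⟩
  · refine (IsSimpleGroup.eq_bot_or_eq_top_of_normal _ inferInstance).resolve_left fun h => ?_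
    have := center_eq_bot (Γ := Spor.HS) (by rw [Nat.card_congr ε.toEquiv, HSx.card]; norm_num)
    rw [commutator_eq_bot_iff_center_eq_top, this] at h
    exact bot_ne_top h
  · refine Eq.trans ?_ (h2.trans hd_o)
    refine Nat.card_congr (Equiv.subtypeEquiv e.toEquiv fun x => ?_)
    exact ε.symm.map_eq_one_iff

theorem K_cover : K.Normal ∧ K.index = 2 ∧ IsNonsplitDoubleCover K Spor.HS := by
  obtain ⟨h1, h2, σ, h3, h4⟩ := K_stem
  obtain ⟨ε⟩ := HSx.perm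
  have := Cfsg.Lib.Leech.simple_sHS
  have := Cfsg.Lib.Leech.hsEquiv.symm.isSimpleGroup
  have : Finite Spor.HN := Nat.finite_of_card_ne_zero (by rw [main.2]; norm_num)
  refine ⟨normal_of_index_eq_two h1, h1, nsdc_of_hom σ h3.1 ?_ h2.1
    (center_eq_bot (by rw [Nat.card_congr ε.toEquiv, HSx.card]; norm_num))⟩
  rw [← σ.ker.card_mul_index, index_ker, MonoidHom.range_eq_top.2 h3.1, card_top, h4]

end Cfsg.Lib.Comp.HN
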