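import Cfsg.Agent.Lib.Comp.HN.Main
import Cfsg.Agent.Lib.Comp.HSx.Main
import Cfsg.Agent.Lib.Comp.Cover
import Cfsg.Agent.Lib.Comp.Subst3

set_option maxRecDepth 100000
set_option Elab.async false

namespace Cfsg.Lib.Comp.HN

universe u

open Cfsg.Spor Subgroup
open scoped commutatorElement

noncomputable def hV : List (List ℕ) := [[],
 [3,78,72,69,5,94,74],
 [79,70,78,78,2,88,5],
 [75,70,64,87,94,73],
 [71,80,68,81,88,91,1],
 [70,80,77,72,2,87,92],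
 [3,71,79,82,64,88,75,93],
 [65,69,3,78,5,81,92],
 [65,74,65,72,78,87,80,94],
 [1,1]]

theorem hV_ok : allL hV (fun w => subB w HNn.Lc) = true := by decide +kernel

noncomputable def Rz : List (List ℕ × ℕ) := (apd [([3],1),
 ([4],1),
 ([1],2),
 ([3,4],1),
 ([1,3],2),
 ([1,4],2),
 ([1,4,2,3],1),
 ([5],1),
 ([1,5],1),
 ([3,5],2),
 ([4,5],3),
 ([3,4,5,3,4,5,3,4,5,9],0),
 ([1,3,1,4,1,5,4,2,3,5,3,1,4,5,9],0),
 ([6],1),
 ([3,6],1),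
 ([1,6,1,6,1,6,9],0),
 ([5,6],2),
 ([4,6],3),
 ([1,4,5,4,2,5,6],1),
 ([7],1),
 ([5,7],1),
 ([1,7],2),
 ([3,7],2),
 ([4,7],2),
 ([6,7],2),
 ([1,3,7,6],1),
 ([1,7,4,5,1,7,4,5,1,7,4,5,9],0),
 ([8],1),
 ([3,8],1),
 ([7,8],1),
 ([4,8,4,8,4,8,9],0),
 ([6,8,6,8,6,8,9],0),
 ([1,8],3),
 ([5,8],3),
 ([1,4,8,1,4,8,1,4,8,9],0),
 ([1,6,1,8,5,8,6,2,3,7],0),
 ([1,2],0),
 ([2,1],0),
 ([1,9,2,9],0),
 ([2,9,1,9],0)]
 [([3,9,3,9],0),
 ([4,9,4,9],0),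
 ([5,9,5,9],0),
 ([6,9,6,9],0),
 ([7,9,7,9],0),
 ([8,9,8,9],0)])

noncomputable abbrev hd : ℕ → Equiv.Perm ℕ := sv (gp HNn.nets) hV

theorem hd_rel : Rels hd Rz := srels HNn.ctl.hB HNn.tb_ok HNn.ctl.hL hV_ok (by decide +kernel)

theorem hd_eq {u w : List ℕ} (h : seqP HNn.tb HNn.B HNn.Lc hV u w = true) : ev hd u = ev (gp HNn.nets) w :=
  seq_eq HNn.ctl.hB HNn.tb_ok HNn.ctl.hL hV_ok h

theorem hd_x : ev hd [2,5,8,5,6,8,2,4,6,7,1,6,5] = ev (gp HNn.nets) [1] := hd_eq (by decide +kernel)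

theorem hd_y : ev hd [3,5,8,5,6,4,7,6,8,2] = ev (gp HNn.nets) [3] := hd_eq (by decide +kernel)

theorem hd_c : ⁅ev hd [1,6,4,2,3], ev hd [6,4]⁆ ^ (0 + 1) = hd 9 :=
  comm_ev (a' := [3,1,4,6,2]) (b' := [4,6]) (by rw [zero_add, pow_one]; exact hd_eq (w := []) (by decide +kernel))
    (by rw [zero_add, pow_one]; exact hd_eq (w := []) (by decide +kernel))
    (by rw [zero_add, pow_one, ev_single hd 9]; exact hd_eq (w := [1,1]) (by decide +kernel))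

theorem hd_ok : CoverOK HSx.iv HSx.R Rz HSx.L 9 2 [1,6,4,2,3] [6,4] := by decide +kernel

theorem hd_z : ∀ x ∈ HSx.L, ev hd [x, 9] = ev hd [9, x] := fun x hx =>
  (hd_eq (w := apd (nth [] hV x) [1,1]) (by revert x; decide +kernel)).trans (hd_eq (by revert x; decide +kernel)).symm

theorem hd_ne : ev hd [1, 3] ≠ ev hd [3, 1] := by
  rw [← ev_xpd, ← ev_xpd]
  exact ne_of_neP (f := MonoidHom.id _) (L := HNn.Lc) (fun _ _ => rfl) HNn.tb_ok (p := 0) (by decide +kernel)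

theorem hd_o : orderOf (hd 9) = 2 := orderOf_eq_prime (by simpa [ev_cons, ev_nil, pow_two] using hd_eq (u := [9, 9]) (w := []) (by decide +kernel))
  (sv_ne HNn.tb_ok (p := 0) (by decide +kernel))

end Cfsg.Lib.Comp.HN
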