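import Cfsg.Agent.Lib.Comp.HN.Hs
import Cfsg.Agent.S2046

set_option maxRecDepth 100000

namespace Cfsg.Lib.Comp.HN

open Cfsg.Spor Cfsg.Lib.Mult Subgroup

section
variable {Γ : Type*} [Group Γ] {C : Subgroup Γ}

theorem norm_t (hC : C ≤ center Γ) {X T : Γ} (h1 : T ^ 5 ∈ C) (h2 : X⁻¹ * T * X * T ^ 2 ∈ C) :
    ∃ s ∈ C, (T * s) ^ 5 = 1 ∧ X⁻¹ * (T * s) * X * (T * s) ^ 2 = 1 := by
  obtain ⟨b, hb⟩ : ∃ b, b = X⁻¹ * T * X * T ^ 2 := ⟨_, rfl⟩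
  rw [← hb] at h2
  have c : ∀ {a}, a ∈ C → ∀ g, Commute g a := fun ha g => mem_center_iff.1 (hC ha) g
  have e1 : b ^ 5 = T ^ 15 := by
    have a1 : (X⁻¹ * T * X) ^ 5 = T ^ 5 := by
      rw [show X⁻¹ * T * X = X⁻¹ * T * X⁻¹⁻¹ by rw [inv_inv], conj_pow, (c h1 _).eq, mul_inv_cancel_right]
    have a2 : Commute (X⁻¹ * T * X) (T ^ 2) := by
      rw [show X⁻¹ * T * X = b * (T ^ 2)⁻¹ by rw [hb, mul_inv_cancel_right]]
      exact (c h2 _).symm.mul_left (Commute.refl _).inv_left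
    rw [hb, a2.mul_pow, a1]; group
  have hs : T ^ 5 * (b ^ 2)⁻¹ ∈ C := mul_mem h1 (inv_mem (pow_mem h2 2))
  have p : ∀ n : ℕ, (T ^ 5 * (b ^ 2)⁻¹) ^ n = T ^ (5 * n) * (b ^ (2 * n))⁻¹ := fun n => by
    rw [(c (inv_mem (pow_mem h2 2)) _).mul_pow, inv_pow, ← pow_mul, ← pow_mul]
  refine ⟨_, hs, ?_, ?_⟩
  · rw [(c hs T).mul_pow, p, show 2 * 5 = 5 * 2 from rfl, pow_mul b, e1]; group
  · have q := p 3
    generalize T ^ 5 * (b ^ 2)⁻¹ = s at hs q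
    calc X⁻¹ * (T * s) * X * (T * s) ^ 2 = X⁻¹ * T * (s * (X * T ^ 2)) * s ^ 2 := by rw [(c hs T).mul_pow]; group
      _ = b * s ^ 3 := by rw [← (c hs (X * T ^ 2)).eq, hb]; group
      _ = 1 := by rw [q, show 5 * 3 = 15 from rfl, ← e1]; group

theorem norm_z (hC : C ≤ center Γ) {u T Z : Γ} (h1 : u⁻¹ * T * u = T⁻¹) (h2 : Z * u = u * Z) (h3 : Z ^ 2 ∈ C)
    (h4 : (Z * T) ^ 3 ∈ C) : ∃ s ∈ C, (Z * s) ^ 2 = 1 ∧ (Z * s * T) ^ 3 = 1 := by
  have c : ∀ {a}, a ∈ C → ∀ g, Commute g a := fun ha g => mem_center_iff.1 (hC ha) g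
  obtain ⟨d, hd⟩ : ∃ d, d = (Z * T) ^ 3 := ⟨_, rfl⟩
  obtain ⟨a, ha⟩ : ∃ a, a = Z ^ 2 := ⟨_, rfl⟩
  rw [← hd] at h4
  rw [← ha] at h3
  have e1 : (T⁻¹ * Z) ^ 3 = d := by
    have : T⁻¹ * Z = (T⁻¹ * u⁻¹) * (Z * T) * (T⁻¹ * u⁻¹)⁻¹ := by
      calc T⁻¹ * Z = T⁻¹ * (u⁻¹ * (Z * u)) * T⁻¹ * T := by rw [h2]; group
        _ = T⁻¹ * (u⁻¹ * (Z * u)) * (u⁻¹ * T * u) * T := by rw [h1]
        _ = _ := by group
    rw [this, conj_pow, ← hd, (c h4 _).eq, mul_inv_cancel_right]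
  have e2 : a ^ 3 = d ^ 2 := by
    have : T⁻¹ * Z = (Z * T)⁻¹ * a := by rw [ha]; group
    rw [this, (c h3 _).mul_pow, inv_pow, ← hd] at e1
    rw [pow_two, ← inv_mul_eq_iff_eq_mul, e1]
  have hs : d⁻¹ * a ∈ C := mul_mem (inv_mem h4) h3
  refine ⟨_, hs, ?_, ?_⟩
  · rw [(c hs Z).mul_pow, (c h3 _).mul_pow, ← ha, ← mul_assoc, ← (c h3 _).eq, mul_assoc, ← pow_succ', e2]; group
  · rw [mul_assoc, ← (c hs T).eq, ← mul_assoc, (c hs _).mul_pow, (c h3 _).mul_pow, ← hd, e2]; group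

theorem comm_ty (hC : C ≤ center Γ) {T Y : Γ} (h1 : T ^ 5 = 1) (h2 : Y ^ 6 = 1) (h : T⁻¹ * Y⁻¹ * T * Y ∈ C) :
    T⁻¹ * Y⁻¹ * T * Y = 1 := by
  have c : ∀ {a}, a ∈ C → ∀ g, Commute g a := fun ha g => mem_center_iff.1 (hC ha) g
  obtain ⟨g, hg⟩ : ∃ g, g = T⁻¹ * Y⁻¹ * T * Y := ⟨_, rfl⟩
  rw [← hg] at h ⊢
  have e1 : g ^ 5 = 1 := by
    have : (T * g) ^ 5 = 1 := by
      rw [show T * g = Y⁻¹ * T * Y⁻¹⁻¹ by rw [hg]; group, conj_pow, h1]; group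
    rwa [(c h T).mul_pow, h1, one_mul] at this
  have e2 : g ^ 6 = 1 := by
    have : (g * Y⁻¹) ^ 6 = 1 := by
      rw [show g * Y⁻¹ = T⁻¹ * Y⁻¹ * T⁻¹⁻¹ by rw [hg]; group, conj_pow, inv_pow, h2]; group
    rwa [(c h _).symm.mul_pow, inv_pow, h2, inv_one, mul_one] at this
  rwa [pow_succ, e1, one_mul] at e2

end

theorem mult : HasCyclicSchurMultiplier Spor.HN 1 := by
  have : Finite Spor.HN := Nat.finite_of_card_ne_zero (by rw [main.2]; norm_num)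
  refine mult_one_iff.2 fun Γ _ _ σ hσ => ?_
  obtain ⟨hi, hp, τ, h1, h2⟩ := K_stem
  have hN := normal_of_index_eq_two hi
  have : Fact (Nat.Prime 2) := ⟨Nat.prime_two⟩
  have hK : HasCyclicSchurMultiplier K 1 := mult_one_of_cover Cfsg.Agent.S2046.result hp h1
    ⟨mulEquivOfPrimeCardEq h2 (by simp)⟩
  obtain ⟨η, hη⟩ := lift_of_mult_one hp hK ((cl gam LN).subtype.comp K.subtype) (ξ := σ) (fun q => hσ.1 _) hσ.2.1
  replace hη : ∀ k : K, σ (η k) = k := DFunLike.congr_fun hη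
  have hx := mem_K (a := 1) (by decide) (by decide) hd_x
  have hy := mem_K (a := 3) (by decide) (by decide) hd_y
  obtain ⟨X, hX⟩ : ∃ X, X = η ⟨_, hx⟩ := ⟨_, rfl⟩
  obtain ⟨Y, hY⟩ : ∃ Y, Y = η ⟨_, hy⟩ := ⟨_, rfl⟩
  have i2 : gam 2 = (gam 1)⁻¹ := (gam_iv.2 1 (by norm_num)).2
  have i4 : gam 4 = (gam 3)⁻¹ := (gam_iv.2 3 (by norm_num)).2
  have i7 : gam 7 = (gam 6)⁻¹ := (gam_iv.2 6 (by norm_num)).2
  have sX : σ X = gam 1 := hX ▸ hη _
  have sY : σ Y = gam 3 := hY ▸ hη _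
  let γ : Γ → Γ → ℕ → Γ := fun Z T => nth 1 [1, X, X⁻¹, Y, Y⁻¹, Z, T, T⁻¹]
  have sγ : ∀ Z T, σ Z = gam 5 → σ T = gam 6 → ∀ x ∈ L, σ (γ Z T x) = gam x := fun Z T hZ hT x hx => by
    simp only [L, List.mem_cons, List.not_mem_nil, or_false] at hx
    rcases hx with rfl | rfl | rfl | rfl | rfl | rfl | rfl
    exacts [sX, by rw [i2, ← sX, ← map_inv]; rfl, sY, by rw [i4, ← sY, ← map_inv]; rfl, hZ, hT,
      by rw [i7, ← hT, ← map_inv]; rfl]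
  have key : ∀ Z T, σ Z = gam 5 → ∀ w : List ℕ, (∀ x ∈ w, x ∈ LN) → ev (γ Z T) w * (Z ^ w.count 5)⁻¹ ∈ η.range := by
    intro Z T hZ w
    let z : cl gam LN := ⟨gam 5, mem_cl (by decide)⟩
    have cj : (MulAut.conj Z).toMonoidHom.comp η = η.comp (MulAut.conjNormal (H := K) z).toMonoidHom :=
      lift_unique hp hσ.2.1 (MonoidHom.ext fun k => by
        simp only [MonoidHom.comp_apply, MulEquiv.coe_toMonoidHom, MulAut.conj_apply, map_mul, map_inv, hη, hZ]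
        rfl)
    induction w with
    | nil => intro _; simp [ev_nil]
    | cons a w ih =>
      intro hw
      obtain ⟨k, hk⟩ := ih fun x hx => hw x (List.mem_cons_of_mem _ hx)
      have ha := hw a List.mem_cons_self
      simp only [LN, List.mem_cons, List.not_mem_nil, or_false] at ha
      rw [ev_cons, mul_assoc]
      rcases ha with rfl | rfl | rfl | rfl | rfl
      · exact mul_mem ⟨_, hX.symm⟩ ⟨k, by simpa using hk⟩
      · exact mul_mem (inv_mem ⟨_, hX.symm⟩) ⟨k, by simpa using hk⟩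
      · exact mul_mem ⟨_, hY.symm⟩ ⟨k, by simpa using hk⟩
      · exact mul_mem (inv_mem ⟨_, hY.symm⟩) ⟨k, by simpa using hk⟩
      · refine ⟨_, (DFunLike.congr_fun cj k).symm.trans ?_⟩
        rw [List.count_cons_self, pow_succ', MonoidHom.comp_apply, hk]
        show Z * _ * Z⁻¹ = Z * _
        group
  have val : ∀ Z T, σ Z = gam 5 → σ T = gam 6 → ∀ (w : List ℕ) (j : ℕ), (∀ x ∈ w, x ∈ LN) → w.count 5 = 2 * j →
      ev gam w = 1 → ev (γ Z T) w = (Z ^ 2) ^ j := fun Z T hZ hT w j hw hj h => by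
    obtain ⟨k, hk⟩ := key Z T hZ w hw
    have h5 : gam 5 ^ 2 = 1 := by simpa [ev_cons, ev_nil] using gam_rel ([5], 1) (by decide +kernel)
    have := hη k
    rw [hk, map_mul, map_ev_of_gen fun x hx => sγ Z T hZ hT x ((by decide : ∀ x ∈ LN, x ∈ L) x (hw x hx)), h,
      hj, pow_mul, map_inv, map_pow, map_pow, hZ, h5, one_pow, inv_one, mul_one] at this
    rw [show k = 1 from Subtype.ext (Subtype.ext this.symm), map_one, eq_comm, mul_inv_eq_one, hj, pow_mul] at hk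
    exact hk
  have rl : ∀ Z T, σ Z = gam 5 → σ T = gam 6 → ∀ r ∈ R, ev (γ Z T) r.1 ^ (r.2 + 1) ∈ σ.ker := fun Z T hZ hT r hr => by
    rw [MonoidHom.mem_ker, map_pow, map_ev_of_gen fun x hx => sγ Z T hZ hT x (by revert x r; decide +kernel)]
    exact gam_rel r hr
  obtain ⟨Z0, hZ0⟩ := hσ.1 (gam 5)
  obtain ⟨T0, hT0⟩ := hσ.1 (gam 6)
  obtain ⟨s, hs, t1, t2⟩ := norm_t hσ.2.1 (X := X) (T := T0)
    (by simpa [γ, nth_eq, ev_cons, ev_nil] using rl Z0 T0 hZ0 hT0 ([6], 4) (by decide +kernel))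
    (by simpa [γ, nth_eq, ev_cons, ev_nil, pow_two, mul_assoc] using rl Z0 T0 hZ0 hT0 ([2,6,1,6,6], 0) (by decide +kernel))
  have hT : σ (T0 * s) = gam 6 := by rw [map_mul, MonoidHom.mem_ker.1 hs, mul_one, hT0]
  generalize T0 * s = T at t1 t2 hT
  obtain ⟨s', hs', z1, z2⟩ := norm_z hσ.2.1 (u := X * X) (T := T) (Z := Z0)
    (by
      have a : X⁻¹ * T * X = (T ^ 2)⁻¹ := eq_inv_of_mul_eq_one_left t2
      calc (X * X)⁻¹ * T * (X * X) = X⁻¹ * (X⁻¹ * T * X) * X := by group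
        _ = X⁻¹ * (T * T)⁻¹ * X := by rw [a, pow_two]
        _ = ((X⁻¹ * T * X) * (X⁻¹ * T * X))⁻¹ := by group
        _ = T⁻¹ * T ^ 5 := by rw [a]; group
        _ = T⁻¹ := by rw [t1, mul_one])
    (by
      have h5 : gam 5 * gam 5 = 1 := by simpa [ev_cons, ev_nil, pow_two] using gam_rel ([5], 1) (by decide +kernel)
      have h6 := mem_centralizer_singleton_iff.1 (cen (mem_cl (show 5 ∈ LN by decide)))
      have := val Z0 T hZ0 hT [5, 1, 1, 5, 2, 2] 1 (by decide) (by decide) (by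
        simp only [ev_cons, ev_nil, mul_one, i2] at h6 ⊢
        calc _ = gam 5 * (gam 1 * gam 1) * gam 5 * (gam 1 * gam 1)⁻¹ := by group
          _ = 1 := by rw [h6, mul_assoc (gam 1 * gam 1) (gam 5), h5]; group)
      replace this : X * (X * (Z0 * (X⁻¹ * X⁻¹))) = Z0 := by
        simpa [γ, nth_eq, ev_cons, ev_nil, pow_two] using this
      calc Z0 * (X * X) = X * (X * (Z0 * (X⁻¹ * X⁻¹))) * (X * X) := by rw [this]
        _ = _ := by group)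
    (by simpa [γ, nth_eq, ev_cons, ev_nil] using rl Z0 T hZ0 hT ([5], 1) (by decide +kernel))
    (by simpa [γ, nth_eq, ev_cons, ev_nil] using rl Z0 T hZ0 hT ([5, 6], 2) (by decide +kernel))
  have hZ : σ (Z0 * s') = gam 5 := by rw [map_mul, MonoidHom.mem_ker.1 hs', mul_one, hZ0]
  generalize Z0 * s' = Z at z1 z2 hZ
  have rn : ∀ r ∈ RN, ev (γ Z T) r.1 ^ (r.2 + 1) = 1 := fun r hr => by
    rw [← ev_fullW, val Z T hZ hT _ ((fullW r).count 5 / 2) (by revert r; decide +kernel) (by revert r; decide +kernel)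
      (by rw [ev_fullW]; exact gam_rel r (by revert r; decide +kernel)), z1, one_pow]
  have t3 := comm_ty hσ.2.1 t1 (Y := Y) (by simpa [γ, nth_eq, ev_cons, ev_nil] using rn ([3], 5) (by decide +kernel))
    (by simpa [γ, nth_eq, ev_cons, ev_nil, mul_assoc] using rl Z T hZ hT ([7,4,6,3], 0) (by decide +kernel))
  have j1 : IvOK (γ Z T) iv := ⟨rfl, fun x hx => ⟨(gam_iv.2 x hx).1, by
    rcases (show (x, iv x) ∈ [(0, 0), (1, 2), (2, 1), (3, 4), (4, 3), (5, 5), (6, 7), (7, 6)] ∨ 8 ≤ x ∧ iv x = x by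
      revert x; decide +kernel) with h | ⟨h, h'⟩
    · simp only [List.mem_cons, List.not_mem_nil, or_false, Prod.mk.injEq] at h
      rcases h with ⟨rfl, h⟩ | ⟨rfl, h⟩ | ⟨rfl, h⟩ | ⟨rfl, h⟩ | ⟨rfl, h⟩ | ⟨rfl, h⟩ | ⟨rfl, h⟩ | ⟨rfl, h⟩ <;> rw [h]
      exacts [inv_one.symm, rfl, (inv_inv _).symm, rfl, (inv_inv _).symm,
        eq_inv_of_mul_eq_one_left ((pow_two Z).symm.trans z1), rfl, (inv_inv _).symm]
    · rw [h', show γ Z T x = 1 from (nth_eq _ _ _).trans (List.getD_eq_default _ _ h), inv_one]⟩⟩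
  have j2 : Rels (γ Z T) R := fun r hr => by
    rcases (show r ∈ RN ∨ r ∈ [([6],4), ([2,6,1,6,6],0), ([7,4,6,3],0), ([5,6],2), ([6,7],0)] by
      revert r; decide +kernel) with h | h
    · exact rn r h
    · simp only [List.mem_cons, List.not_mem_nil, or_false] at h
      rcases h with rfl | rfl | rfl | rfl | rfl
      · simpa [γ, nth_eq, ev_cons, ev_nil] using t1
      · simpa [γ, nth_eq, ev_cons, ev_nil, pow_two, mul_assoc] using t2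
      · simpa [γ, nth_eq, ev_cons, ev_nil, mul_assoc] using t3
      · simpa [γ, nth_eq, ev_cons, ev_nil] using z2
      · simp [γ, nth_eq, ev_cons, ev_nil]
  obtain ⟨f, hf⟩ := gam_ex.choose_spec.2.2.2.2 _ _ j1 j2
  refine ker_eq_bot_of_section hσ (η := f) (MonoidHom.eq_of_eqOn_dense gam_top ?_)
  rintro _ ⟨x, hx, rfl⟩
  exact (congrArg σ (hf x hx)).trans (sγ Z T hZ hT x hx)

end Cfsg.Lib.Comp.HN
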