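import Cfsg.Agent.Lib.Comp.HN.Kill
import Cfsg.Agent.Lib.Comp.HN.Q1
import Cfsg.Agent.Lib.Comp.HN.N1

set_option maxRecDepth 100000
set_option Elab.async false

namespace Cfsg.Lib.Comp.HN

universe u

theorem q1_ord : Ord.{u} iv Q1_R [1,2,3,4] 504000 :=
  (Idx.ord_sub (R := Q1_R ++ RC0) (Q1_idx.of_cons (cons_of_subset (by decide +kernel))) (K0_idx.ord_base.of_cons (cons_of_subset (by decide +kernel)))
    (V := V0) (R' := K0_R) (by decide +kernel) (by decide +kernel)).of_cons ((Cons.refl _ _).append ((cons_of_subset (by decide +kernel)).trans rc0))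

theorem n_ord : Ord.{u} iv RN LN 177408000 :=
  (N1_idx.ord_step q1_ord).of_cons (c_cons.trans (cons_of_subset (by decide +kernel)))

end Cfsg.Lib.Comp.HN
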