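import Cfsg.Agent.Lib.Comp.HN.Hs
import Cfsg.Agent.Lib.Comp.HN.Alt
import Cfsg.Agent.Lib.Comp.HN.OutD
import Cfsg.Agent.S2072

set_option maxRecDepth 100000

namespace Cfsg.Lib.Comp.HN

open Cfsg.Spor Cfsg.Lib.Mult Subgroup

noncomputable abbrev G : Subgroup (Equiv.Perm ℕ) := cl (gp HNn.nets) HNn.L

noncomputable def φ : G →* Spor.HN := (cl gam LN).subtype.comp ne.toMonoidHom

theorem φ_inj : Function.Injective φ := Subtype.val_injective.comp ne.injective

theorem φ_mem (g : G) : φ g ∈ cl gam LN := (ne g).2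

theorem φ_surj {c : Spor.HN} (h : c ∈ cl gam LN) : ∃ g, φ g = c := ⟨ne.symm ⟨c, h⟩, congrArg Subtype.val (ne.apply_symm_apply _)⟩

theorem gm_ev {w : List ℕ} (h : ∀ a ∈ w, a ∈ HNn.Lc) : ev gm w = φ (evG HNn.nets G w) :=
  (map_ev_of_gen fun a ha => (gm_ne a (h a ha)).symm).symm

theorem fin : Finite Spor.HN := Nat.finite_of_card_ne_zero (by rw [main.2]; norm_num)

theorem act2 : ∃ f : Spor.HN →* Equiv.Perm HNn.Pt, (cl gam LN).index = 1539000 ∧
    (∀ g, f g (HNn.pt 0) = HNn.pt 0 ↔ g ∈ cl gam LN) ∧ ∀ (g : G) y, f (φ g) y = g • y := by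
  obtain ⟨f, hf, -, hi, -, h1, h0, ⟨e, he⟩, -⟩ := act
  have : f.comp φ = MulAction.toPermHom G HNn.Pt := MonoidHom.eq_of_eqOn_dense (cl_sval_top _ HNn.L) (by
    rintro _ ⟨a, ha, rfl⟩
    replace ha : a ∈ HNn.L := ha
    have h2 : a ∈ L ∧ a ∈ HNn.Lc ∧ a ≠ 6 ∧ a ≠ 7 := by revert a; decide +kernel
    exact (congrArg f ((gm_ne a h2.2.1).symm.trans (gm_gam a h2.1))).trans
      ((hf a h2.1).trans ((if_neg h2.2.2.1).trans (if_neg h2.2.2.2))))
  exact ⟨f, h1, h0, fun g y => DFunLike.congr_fun (DFunLike.congr_fun this g) y⟩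

theorem z_ord : orderOf (ev gam [1, 1]) = 2 :=
  orderOf_eq_prime (by simpa [ev_cons, ev_nil, pow_two, mul_assoc] using r1 ([1,1,1,1], 0) (by decide +kernel)) z_ne

theorem z_gm : ev gm [1, 1] = ev gam [1, 1] := ev_congr' fun x hx => gm_gam x (by revert x; decide)

theorem cen_eq : centralizer {ev gam [1, 1]} = cl gam LN := by
  obtain ⟨f, h1, h0, hf⟩ := act2
  have := fin
  have := HNn.nets_ok.finite HNn.L
  letI : MulAction Spor.HN HNn.Pt := MulAction.compHom _ f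
  set H := centralizer {ev gam [1, 1]}
  have d2 := (HNn.sg_M.sums (MulAction.orbit H (HNn.pt 0)) (by
    rintro g _ ⟨m, rfl⟩
    exact ⟨⟨φ g, cen (φ_mem g)⟩ * m, (mul_smul _ _ _).trans (hf g _)⟩)).2.1
  have e : MulAction.stabilizer H (HNn.pt 0) = (cl gam LN).subgroupOf H := by ext g; exact h0 g
  have d1 := relIndex_mul_index cen
  rw [← MulAction.index_stabilizer, e, HNn.card] at d2
  rw [h1] at d1
  rcases (by decide +kernel : ∀ d ∈ sums (szs (fun k => 177408000 / (HNn.xN k).2.2.1) 9), d ∣ 1539000 →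
    d = 1 ∨ d = 1539000) _ d2 (Dvd.intro _ d1) with h | h
  · exact le_antisymm (relIndex_eq_one.1 h) cen
  · have := main.1
    rw [show (cl gam LN).relIndex H = _ from h, mul_eq_left₀ (by norm_num), index_eq_one, centralizer_eq_top_iff_subset,
      center_eq_bot (by rw [main.2]; norm_num)] at d1
    exact absurd (d1 rfl) z_ne

theorem ex' : Exact HNn.nets ((sL, [1,5,1,3,64,5,66,68,70,3,1,68,5,3,70,1,66,1], 0, 0, 64 * 22) :: HNn.Lv.tail) HNn.Lc := by
  rw [show _ :: HNn.Lv.tail = HNn.Lv by decide +kernel]; exact HNn.ex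

theorem G_lc {g : Equiv.Perm ℕ} : g ∈ cl (gp HNn.nets) HNn.Lc ↔ g ∈ G := by rw [HNn.cl_lc]

theorem q_sub : ∀ a ∈ qw, a ∈ HNn.Lc := by decide +kernel

theorem q_z : ev gm qw ^ 11 = ev gam [1, 1] := by
  rw [← z_gm, gm_ev q_sub, gm_ev (by decide +kernel), ← map_pow]
  refine congrArg φ (Subtype.ext ?_)
  rw [coe_pow, HNn.ctl.coe q_sub, HNn.ctl.coe (by decide +kernel)]
  exact HNn.ex.eq HNn.nets_ok HNn.tb_ok (allL_iff.1 qE_ok _ List.mem_cons_self)

theorem p_ord : orderOf (ev gm qw ^ 2) = 11 := by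
  have : Fact (Nat.Prime 11) := ⟨by norm_num⟩
  refine orderOf_eq_prime (by rw [← pow_mul, mul_comm, pow_mul, q_z, ← z_ord, pow_orderOf_eq_one]) fun h => ?_
  rw [gm_ev q_sub, ← map_pow, map_eq_one_iff _ φ_inj, Subtype.ext_iff, coe_pow, HNn.ctl.coe q_sub, pow_two,
    ← ev_append] at h
  exact ne_of_wap HNn.tb_ok (w := []) (p := 0) (by decide +kernel) h

theorem cen_p {c : Spor.HN} (h : Commute c (ev gm qw ^ 2)) : c ∈ zpowers (ev gm qw) := by
  obtain ⟨f, -, h0, hf⟩ := act2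
  have ho := p_ord
  rw [gm_ev q_sub, ← map_pow] at h ho
  rw [orderOf_injective _ φ_inj] at ho
  obtain ⟨k, hk, h1, g, h2⟩ := HNn.sg_M.fix (S := zpowers (evG HNn.nets G qw ^ 2)) (y := f c (HNn.pt 0))
    (zpowers_le.2 (by
      rw [MulAction.mem_stabilizer_iff, ← hf, ← Equiv.Perm.mul_apply, ← map_mul, ← h.eq, map_mul,
        Equiv.Perm.mul_apply, (h0 _).2 (φ_mem _)]))
  rw [Nat.card_zpowers, ho] at h1
  obtain rfl : k = 0 := by clear h2; revert k; decide +kernel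
  obtain ⟨c, rfl⟩ := φ_surj ((h0 c).1 (by rw [h2, ← hf, (h0 _).2 (φ_mem _)]))
  have h3 : Commute (c : Equiv.Perm ℕ) (ev (gp HNn.nets) qw ^ 2) := by
    rw [← HNn.ctl.coe q_sub]; exact (h.of_map φ_inj).map G.subtype
  obtain ⟨i, hi⟩ := cent_cyc HNn.nets_ok HNn.tb_ok ex' q_cyc (G_lc.2 c.2) (fun u hu => by
    rw [mapL_eq] at hu
    obtain ⟨z, hz, rfl⟩ := List.mem_map.1 hu
    rw [← HNn.ex.eq HNn.nets_ok HNn.tb_ok (allL_iff.1 qE_ok (2 * z.1, z.2.2) (List.mem_cons_of_mem _ (by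
      rw [mapL_eq]; exact List.mem_map.2 ⟨z, hz, rfl⟩))), pow_mul]
    exact h3.pow_right _) (by simp)
  refine ⟨i, ?_⟩
  rw [gm_ev q_sub]
  exact (map_zpow φ _ i).symm.trans (congrArg φ (Subtype.ext (by rw [coe_zpow, HNn.ctl.coe q_sub]; exact hi)))

/-- The subgroup `U₃(5)`. -/
noncomputable def S : Subgroup G := MulAction.stabilizer G (0 : ℕ)

theorem S_eq : S.map G.subtype = cl (gp HNn.nets) sL := by
  obtain ⟨-, c2, c3, -⟩ := Exact.cons HNn.nets_ok ex'
  ext g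
  exact ⟨fun ⟨g, h, e⟩ => e ▸ (c3 _ (G_lc.2 g.2)).1 h, fun h =>
    have := cl_mono c2 h
    ⟨⟨g, G_lc.1 this⟩, (c3 g this).2 h, rfl⟩⟩

theorem S_card : Nat.card S = 126000 := by
  have := (Exact.cons HNn.nets_ok ex').2.2.2.2.2
  rw [HNn.cl_lc, HNn.card, ← S_eq, card_map_of_injective G.subtype_injective] at this
  omega

theorem i2 : gam 2 = (gam 1)⁻¹ := (gam_iv.2 1 (by norm_num)).2

theorem i4 : gam 4 = (gam 3)⁻¹ := (gam_iv.2 3 (by norm_num)).2

theorem i7 : gam 7 = (gam 6)⁻¹ := (gam_iv.2 6 (by norm_num)).2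

theorem S_le {A : Subgroup Spor.HN} (h1 : gam 3 ∈ A) (h2 : (gam 1)⁻¹ * gam 3 * gam 1 ∈ A) : S.map φ ≤ A := by
  have e : S = cl (sval G (gp HNn.nets)) [3, 4, 64, 65] := map_injective G.subtype_injective (by
    have := cl_eq_of_slpB HNn.nets_ok (by norm_num) s_slp
    rw [show [3, 4, 64, 65] ++ _ = sL by decide +kernel] at this
    exact (S_eq.trans this).trans (map_cl_sval fun x hx => HNn.ctl.hL x (by revert x; decide +kernel)).symm)
  have k : ∀ {a : ℕ} {w : List ℕ}, eqW HNn.tb HNn.B HNn.Lc [a] w = true → (∀ x ∈ w, x ∈ L) →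
      φ (sval G (gp HNn.nets) a) = ev gam w := fun h hw => by
    rw [← ev_congr' fun x hx => gm_gam x (hw x hx), gm_ev (HNn.ctl.sub h).2, ← HNn.ctl.eq h, evG, ev_single]
  rw [e, cl_map, cl_le]
  simp only [List.mem_cons, List.not_mem_nil, or_false]
  rintro _ (rfl | rfl | rfl | rfl)
  · rwa [k (w := [3]) (by decide +kernel) (by decide), ev_single]
  · rw [k (w := [4]) (by decide +kernel) (by decide), ev_single, i4]; exact inv_mem h1
  · simpa [k (a := 64) (w := [2, 3, 1]) (by decide +kernel) (by decide), ev_cons, ev_nil, i2, mul_assoc] using h2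
  · simpa [k (a := 65) (w := [2, 4, 1]) (by decide +kernel) (by decide), ev_cons, ev_nil, i2, i4, mul_assoc] using inv_mem h2

/-- The centraliser of `U₃(5)`. -/
noncomputable def C : Subgroup Spor.HN := centralizer (S.map φ)

theorem mem_C {c : Spor.HN} (h1 : Commute c (gam 1)) (h2 : Commute c (gam 3)) : c ∈ C := fun _ hg =>
  mem_centralizer_singleton_iff.1 (S_le (mem_centralizer_singleton_iff.2 h2.symm)
    (mem_centralizer_singleton_iff.2 ((h1.inv_right.mul_right h2).mul_right h1).symm) hg)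

theorem C_N {c : Spor.HN} (h : c ∈ C) (h1 : c ∈ cl gam LN) : c ∈ zpowers (ev gam [1, 1]) := by
  obtain ⟨c, rfl⟩ := φ_surj h1
  have k : ∀ u ∈ apd (mapL (·.2) sU) sV, Commute (c : Equiv.Perm ℕ) (ev (gp HNn.nets) u) := fun u hu => by
    have a := cnd_tt.1 (allL_iff.1 sU_ok u hu)
    have a1 := HNn.ctl.coe (sub_of_subB a.1)
    have a2 := beq_tt.1 a.2
    rw [wap_eq HNn.tb_ok, Equiv.Perm.inv_eq_iff_eq, ← a1] at a2
    rw [← a1]
    exact (Commute.of_map φ_inj (h _ ⟨_, a2.symm, rfl⟩).symm).map G.subtype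
  rw [apd_eq, mapL_eq] at k
  obtain ⟨i, hi⟩ := cent_cyc HNn.nets_ok HNn.tb_ok ex' s_cyc (G_lc.2 c.2)
    (fun u hu => k _ (List.mem_append_left _ (List.mem_map.2 ⟨u, hu, rfl⟩))) fun u hu => k _ (List.mem_append_right _ hu)
  refine ⟨i, ?_⟩
  rw [← z_gm, gm_ev (by decide +kernel)]
  exact (map_zpow φ _ i).symm.trans (congrArg φ (Subtype.ext (by
    rw [coe_zpow, HNn.ctl.coe (by decide +kernel)]; exact hi)))

theorem C_card : Nat.card C ≤ 10 := by
  obtain ⟨f, -, h0, hf⟩ := act2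
  have := fin
  have := HNn.nets_ok.finite HNn.L
  letI : MulAction Spor.HN HNn.Pt := MulAction.compHom _ f
  have e1 : MulAction.stabilizer G (HNn.pt 1) = S := eq_of_le_of_card_ge HNn.b_fix (by
    rw [S_card, HNn.sg_M.card 1 (by norm_num)]; decide +kernel)
  have w : ∀ j : ℕ, ∃ y, ∀ g : G, (g : Equiv.Perm ℕ) 0 = j → g • HNn.pt 1 = y := fun j => by
    by_cases h : ∃ g : G, (g : Equiv.Perm ℕ) 0 = j
    · obtain ⟨g, rfl⟩ := h
      refine ⟨g • HNn.pt 1, fun g' h => ?_⟩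
      rw [← inv_smul_eq_iff, smul_smul, ← MulAction.mem_stabilizer_iff, e1]
      exact (congrArg _ h).trans (inv_smul_smul g (0 : ℕ))
    · exact ⟨HNn.pt 0, fun g hg => (h ⟨g, hg⟩).elim⟩
  choose y hy using w
  have a1 : MulAction.orbit C (HNn.pt 0) ⊆ {HNn.pt 0, y 0, y 51, y 52, y 53} := by
    rintro _ ⟨c, rfl⟩
    have b : S ≤ MulAction.stabilizer G (f c (HNn.pt 0)) := fun s hs => by
      rw [MulAction.mem_stabilizer_iff, ← hf, ← Equiv.Perm.mul_apply, ← map_mul, c.2 _ ⟨s, hs, rfl⟩, map_mul,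
        Equiv.Perm.mul_apply, (h0 _).2 (φ_mem _)]
    obtain ⟨k, hk, h1, g, h2⟩ := HNn.sg_M.fix b
    rw [S_card] at h1
    rcases (by clear h2; revert k; decide +kernel : k = 0 ∨ k = 1) with rfl | rfl
    · exact Or.inl (h2.trans (by rw [← hf, (h0 _).2 (φ_mem _)]))
    · have b1 : ∀ a ∈ sL, wap HNn.tb [a] ((g : Equiv.Perm ℕ) 0) = (g : Equiv.Perm ℕ) 0 := fun a ha => by
        obtain ⟨s, hs, e⟩ : gp HNn.nets a ∈ S.map G.subtype := S_eq ▸ mem_cl ha
        have := b hs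
        rw [MulAction.mem_stabilizer_iff, h2, ← inv_smul_eq_iff, smul_smul, smul_smul] at this
        have := HNn.b_fix _ this
        rw [coe_mul, coe_mul, Equiv.Perm.mul_apply, Equiv.Perm.mul_apply, coe_inv, Equiv.Perm.inv_eq_iff_eq] at this
        rw [wap_eq HNn.tb_ok, ev_single, Equiv.Perm.inv_eq_iff_eq, ← e]
        exact this.symm
      have b2 := allR_sound fix4 (Nat.zero_le _) (HNn.lev0.1 g g.2)
      rw [beq_tt.2 (b1 3 (by decide)), beq_tt.2 (b1 64 (by decide))] at b2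
      have b3 := bit_msk.1 b2
      simp only [List.mem_cons, List.not_mem_nil, or_false] at b3
      refine Or.inr ?_
      rw [show (fun m : C => m • HNn.pt 0) c = _ from h2.trans (hy _ g rfl)]
      rcases b3 with b3 | b3 | b3 | b3 <;> simp [b3]
  have a2 : (MulAction.stabilizer C (HNn.pt 0)).index ≤ 5 := by
    rw [MulAction.index_stabilizer]
    refine (Set.ncard_le_ncard a1).trans ?_
    iterate 4 refine (Set.ncard_insert_le _ _).trans (Nat.succ_le_succ ?_)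
    rw [Set.ncard_singleton]
  have a3 : Nat.card (MulAction.stabilizer C (HNn.pt 0)) ≤ 2 := by
    rw [← z_ord, ← Nat.card_zpowers, ← card_map_of_injective C.subtype_injective]
    refine card_le_of_le ?_
    rintro _ ⟨c, hc, rfl⟩
    exact C_N c.2 ((h0 _).1 hc)
  rw [← (MulAction.stabilizer C (HNn.pt 0)).index_mul_card]
  exact Nat.mul_le_mul a2 a3

theorem t5 : gam 6 ^ 5 = 1 := by simpa [ev_cons, ev_nil] using gam_rel ([6], 4) (by decide +kernel)

theorem tx : (gam 1)⁻¹ * gam 6 * gam 1 = (gam 6 ^ 2)⁻¹ := eq_inv_of_mul_eq_one_left (by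
  simpa [ev_cons, ev_nil, i2, pow_two, mul_assoc] using gam_rel ([2,6,1,6,6], 0) (by decide +kernel))

theorem wt : (gam 5 * gam 6) ^ 3 = 1 := by simpa [ev_cons, ev_nil] using gam_rel ([5, 6], 2) (by decide +kernel)

theorem t_ord : orderOf (gam 6) = 5 := by
  have : Fact (Nat.Prime 5) := ⟨by norm_num⟩
  refine orderOf_eq_prime t5 fun h => ?_
  obtain ⟨-, h1, -⟩ := act2
  rw [show cl gam LN = ⊤ from eq_top_iff.2 (gam_top ▸ cl_le.2 fun a ha => by
    rcases (by revert a; decide : a ∈ LN ∨ a = 6 ∨ a = 7) with b | rfl | rfl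
    exacts [mem_cl b, h ▸ one_mem _, by rw [i7, h, inv_one]; exact one_mem _]), index_top] at h1
  omega

theorem t_C : gam 6 ∈ C := fun _ hg => by
  have h : Commute (gam 3) (gam 6) := by
    have := gam_rel ([7,4,6,3], 0) (by decide +kernel)
    simp only [ev_cons, ev_nil, i4, i7, mul_one, zero_add, pow_one] at this
    calc gam 3 * gam 6 = gam 3 * gam 6 * ((gam 6)⁻¹ * ((gam 3)⁻¹ * (gam 6 * gam 3))) := by rw [this, mul_one]
      _ = _ := by group
  refine mem_centralizer_singleton_iff.1 (S_le (mem_centralizer_singleton_iff.2 h) (mem_centralizer_singleton_iff.2 ?_) hg)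
  have h1 : gam 6 = (gam 1)⁻¹ * gam 6 ^ 2 * gam 1 := by
    calc gam 6 = (gam 6 ^ 2)⁻¹ * (gam 6 ^ 2)⁻¹ * gam 6 ^ 5 := by group
      _ = (gam 1)⁻¹ * (gam 6 * gam 6) * gam 1 := by rw [t5, ← tx]; group
      _ = _ := by rw [pow_two]
  calc _ = (gam 1)⁻¹ * gam 3 * gam 1 * ((gam 1)⁻¹ * gam 6 ^ 2 * gam 1) := by rw [← h1]
    _ = (gam 1)⁻¹ * (gam 3 * gam 6 ^ 2) * gam 1 := by group
    _ = ((gam 1)⁻¹ * gam 6 ^ 2 * gam 1) * ((gam 1)⁻¹ * gam 3 * gam 1) := by rw [(h.pow_right 2).eq]; group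
    _ = _ := by rw [← h1]

theorem C_sq {c : Spor.HN} (h : c ∈ C) : c ^ 2 ∈ zpowers (gam 6) := by
  have := fin
  have h1 := ((zpowers (gam 6)).subgroupOf C).index_mul_card
  rw [Nat.card_congr (subgroupOfEquivOfLe (zpowers_le.2 t_C)).toEquiv, Nat.card_zpowers, t_ord] at h1
  have h2 := C_card
  have h3 : 0 < Nat.card C := Nat.card_pos
  rcases (by omega : ((zpowers (gam 6)).subgroupOf C).index = 1 ∨ ((zpowers (gam 6)).subgroupOf C).index = 2) with a | a
  · exact pow_mem (subgroupOf_eq_top.1 (index_eq_one.1 a) h) 2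
  · exact sq_mem_of_index_two a ⟨c, h⟩

theorem z_cases {c : Spor.HN} (h : c ∈ zpowers (ev gam [1, 1])) : ∃ e < 2, c = ev gam [1, 1] ^ e := by
  classical
  have := fin
  rw [mem_zpowers_iff_mem_range_orderOf, z_ord] at h
  obtain ⟨e, he, rfl⟩ := Finset.mem_image.1 h
  exact ⟨e, Finset.mem_range.1 he, rfl⟩

theorem q_K {c : cl gam LN} (h : (c : Spor.HN) ∈ zpowers (ev gm qw)) : c ∈ K := by
  obtain ⟨i, hi⟩ := h
  let q : cl gam LN := ⟨ev gm qw, gm_ev q_sub ▸ φ_mem _⟩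
  have h1 : q ^ 11 = ⟨gam 1, mem_cl (by decide)⟩ ^ 2 := Subtype.ext (q_z.trans (by simp [ev_cons, ev_nil, pow_two]))
  have h2 : q ∈ K := by
    rw [show q = q ^ 11 * ((q ^ 5) ^ 2)⁻¹ by group, h1]
    exact mul_mem (sq_mem_of_index_two K_stem.1 _) (inv_mem (sq_mem_of_index_two K_stem.1 _))
  rw [show c = q ^ i from Subtype.ext hi.symm]
  exact zpow_mem h2 i

theorem aut1 (α : MulAut Spor.HN) : ∃ g, (MulAut.conj g * α : MulAut Spor.HN) (ev gam [1, 1]) = ev gam [1, 1] := by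
  have := fin
  have : Fact (Nat.Prime 11) := ⟨by norm_num⟩
  obtain ⟨g, hg⟩ := conj_mem_of_index (p := 11) (A := zpowers (ev gm qw ^ 2)) (x := α (ev gm qw ^ 2)) (fun h => by
    have := (zpowers (ev gm qw ^ 2)).index_mul_card
    rw [Nat.card_zpowers, p_ord, main.2] at this
    omega) (by rw [← map_pow, ← p_ord, pow_orderOf_eq_one, map_one])
  refine ⟨g, ?_⟩
  change (MulAut.conj g * α : MulAut Spor.HN) _ ∈ _ at hg
  generalize MulAut.conj g * α = β at hg
  have h1 : zpowers (β (ev gm qw ^ 2)) = zpowers (ev gm qw ^ 2) := eq_of_le_of_card_ge (zpowers_le.2 hg) (by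
    rw [Nat.card_zpowers, Nat.card_zpowers, MulEquiv.orderOf_eq])
  have h2 : Commute (ev gam [1, 1]) (ev gm qw ^ 2) := q_z ▸ Commute.pow_pow_self _ _ _
  obtain ⟨j, hj⟩ : ev gm qw ^ 2 ∈ zpowers (β (ev gm qw ^ 2)) := by rw [h1]; exact mem_zpowers _
  obtain ⟨i, hi⟩ := cen_p (c := β (ev gam [1, 1])) (hj ▸ (h2.map β).zpow_right j)
  have h3 : orderOf (β (ev gam [1, 1])) = 2 := (MulEquiv.orderOf_eq _ _).trans z_ord
  obtain ⟨k, rfl⟩ : ((11 : ℕ) : ℤ) ∣ i := by
    rw [← p_ord, orderOf_dvd_iff_zpow_eq_one, ← zpow_natCast, ← zpow_mul, mul_comm, zpow_mul, zpow_natCast]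
    exact (congrArg (· ^ 2) hi).trans (h3 ▸ pow_orderOf_eq_one _)
  obtain ⟨e, he, h4⟩ := z_cases (c := β (ev gam [1, 1])) ⟨k, by rw [← hi, ← q_z, ← zpow_natCast]; exact (zpow_mul _ _ _).symm⟩
  interval_cases e
  · rw [h4, pow_zero, orderOf_one] at h3; omega
  · rw [h4, pow_one]

theorem aut2 (α : MulAut Spor.HN) : ∃ g, ∃ e < 2, (MulAut.conj g * α : MulAut Spor.HN) (gam 1) = gam 1 ∧
    (MulAut.conj g * α : MulAut Spor.HN) (gam 3) = gam 3 ∧ (MulAut.conj g * α : MulAut Spor.HN) (gam 5) = gam 5 * ev gam [1, 1] ^ e := by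
  have := fin
  obtain ⟨g, hg⟩ := aut1 α
  have h1 : (cl gam LN).map (MulAut.conj g * α : MulAut Spor.HN).toMonoidHom = cl gam LN := by
    ext a
    rw [mem_map_equiv, ← cen_eq, mem_centralizer_singleton_iff, mem_centralizer_singleton_iff,
      ← (MulAut.conj g * α : MulAut Spor.HN).apply_eq_iff_eq, map_mul, map_mul, MulEquiv.apply_symm_apply, hg]
  obtain ⟨hi, hp, τ, t1, -⟩ := K_stem
  obtain ⟨ε⟩ := HSx.perm
  have := Cfsg.Lib.Leech.simple_sHS
  have := Cfsg.Lib.Leech.hsEquiv.symm.isSimpleGroup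
  obtain ⟨n, hn⟩ := aut_fix hi hp t1 (center_eq_bot (by rw [Nat.card_congr ε.toEquiv, HSx.card]; norm_num))
    Cfsg.Agent.S2072.result (fun v hv => q_K (cen_p (by
      exact congrArg Subtype.val (hv _ (sq_mem_of_index_two hi ⟨ev gm qw, gm_ev q_sub ▸ φ_mem _⟩)))))
    (((MulAut.conj g * α : MulAut Spor.HN).subgroupMap _).trans (MulEquiv.subgroupCongr h1))
  have h2 : ∀ k ∈ K, (MulAut.conj ((n : Spor.HN)⁻¹ * g) * α : MulAut Spor.HN) k = k := fun k hk => by
    rw [map_mul, mul_assoc, MulAut.mul_apply, show (MulAut.conj g * α : MulAut Spor.HN) k = _ from congrArg Subtype.val (hn k hk)]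
    simp [mul_assoc]
  have h3 : (MulAut.conj ((n : Spor.HN)⁻¹ * g) * α : MulAut Spor.HN) (gam 5) ∈ cl gam LN := by
    rw [map_mul, mul_assoc, MulAut.mul_apply, MulAut.conj_apply]
    exact mul_mem (mul_mem (inv_mem n.2) (h1.le ⟨_, mem_cl (by decide), rfl⟩)) (inv_mem (inv_mem n.2))
  refine ⟨(n : Spor.HN)⁻¹ * g, ?_⟩
  generalize MulAut.conj ((n : Spor.HN)⁻¹ * g) * α = β at h2 h3
  have hx := mem_K (a := 1) (by decide) (by decide) hd_x
  have hy := mem_K (a := 3) (by decide) (by decide) hd_y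
  have h4 : ∀ k ∈ K, Commute ((gam 5)⁻¹ * β (gam 5)) k := fun k hk => by
    have := h2 _ ((normal_of_index_eq_two hi).conj_mem k hk ⟨gam 5, mem_cl (by decide)⟩)
    simp only [coe_mul, coe_inv, map_mul, map_inv, h2 k hk] at this
    calc (gam 5)⁻¹ * β (gam 5) * k = (gam 5)⁻¹ * (β (gam 5) * k * (β (gam 5))⁻¹) * β (gam 5) := by group
      _ = k * ((gam 5)⁻¹ * β (gam 5)) := by rw [this]; group
  obtain ⟨e, he, h5⟩ := z_cases (C_N (mem_C (h4 _ hx) (h4 _ hy)) (mul_mem (inv_mem (mem_cl (by decide))) h3))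
  exact ⟨e, he, h2 _ hx, h2 _ hy, by rw [← h5, mul_inv_cancel_left]⟩

theorem aut_t {β : MulAut Spor.HN} (h1 : β (gam 1) = gam 1) (h2 : β (gam 3) = gam 3) :
    ∃ i < 5, 0 < i ∧ β (gam 6) = gam 6 ^ i := by
  classical
  have := fin
  have h3 : β (gam 6) ∈ C := fun a ha => by
    have : β a = a := S_le (A := β.toMonoidHom.eqLocus (MonoidHom.id _)) h2
      (show β _ = _ by rw [map_mul, map_mul, map_inv, h1, h2]; rfl) ha
    rw [← this, ← map_mul, ← map_mul, t_C a ha]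
  have h4 : orderOf (β (gam 6)) = 5 := (MulEquiv.orderOf_eq _ _).trans t_ord
  have h5 : β (gam 6) ∈ zpowers (gam 6) := by
    rw [show β (gam 6) = (β (gam 6) ^ 2) ^ 3 by rw [← pow_mul, show 2 * 3 = 5 + 1 from rfl, pow_succ, ← h4,
      pow_orderOf_eq_one, one_mul]]
    exact pow_mem (C_sq h3) 3
  rw [mem_zpowers_iff_mem_range_orderOf, t_ord] at h5
  obtain ⟨i, hi, e⟩ := Finset.mem_image.1 h5
  refine ⟨i, Finset.mem_range.1 hi, Nat.pos_of_ne_zero ?_, e.symm⟩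
  rintro rfl
  rw [← show _ = β (gam 6) from e, pow_zero, orderOf_one] at h4
  omega

theorem out_le : Finite (Out Spor.HN) ∧ Nat.card (Out Spor.HN) ≤ 2 := by
  refine card_out_le_of [(0, 1), (1, 2)] (fun β (s : ℕ × ℕ) => β (gam 1) = gam 1 ∧ β (gam 3) = gam 3 ∧
    β (gam 5) = gam 5 * ev gam [1, 1] ^ s.1 ∧ β (gam 6) = gam 6 ^ s.2) (fun α => ?_) fun α β s a b => ?_
  · have zt : ev gam [1, 1] * gam 6 * (ev gam [1, 1])⁻¹ = gam 6 ^ 4 := by
      have a : (gam 1 * gam 1)⁻¹ * gam 6 * (gam 1 * gam 1) = gam 6 ^ 4 := by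
        calc _ = (gam 1)⁻¹ * ((gam 1)⁻¹ * gam 6 * gam 1) * gam 1 := by group
          _ = (gam 1)⁻¹ * (gam 6 * gam 6)⁻¹ * gam 1 := by rw [tx, pow_two]
          _ = (((gam 1)⁻¹ * gam 6 * gam 1) * ((gam 1)⁻¹ * gam 6 * gam 1))⁻¹ := by group
          _ = _ := by rw [tx]; group
      have b : (ev gam [1, 1])⁻¹ = ev gam [1, 1] :=
        inv_eq_of_mul_eq_one_left (by rw [← pow_two, ← z_ord, pow_orderOf_eq_one])
      rw [show gam 1 * gam 1 = ev gam [1, 1] by simp [ev_cons, ev_nil], b] at a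
      rw [b, a]
    have zc : ∀ a ∈ cl gam LN, MulAut.conj (ev gam [1, 1]) a = a := fun a ha => by
      rw [MulAut.conj_apply, ← mem_centralizer_singleton_iff.1 (cen ha), mul_inv_cancel_right]
    obtain ⟨g, e, i, he, hi, h0, h1, h2, h3, h4⟩ : ∃ g e i, e < 2 ∧ i < 3 ∧ 0 < i ∧ (MulAut.conj g * α : MulAut Spor.HN) (gam 1) = gam 1 ∧
        (MulAut.conj g * α : MulAut Spor.HN) (gam 3) = gam 3 ∧ (MulAut.conj g * α : MulAut Spor.HN) (gam 5) = gam 5 * ev gam [1, 1] ^ e ∧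
        (MulAut.conj g * α : MulAut Spor.HN) (gam 6) = gam 6 ^ i := by
      obtain ⟨g, e, he, h1, h2, h3⟩ := aut2 α
      obtain ⟨i, hi, h0, h4⟩ := aut_t h1 h2
      by_cases h : i < 3
      · exact ⟨g, e, i, he, h, h0, h1, h2, h3, h4⟩
      · refine ⟨ev gam [1, 1] * g, e, 5 - i, he, by omega, by omega, ?_⟩
        simp only [map_mul MulAut.conj, mul_assoc, MulAut.mul_apply _ (MulAut.conj (ev gam [1, 1])), h1, h2, h3, h4]
        refine ⟨zc _ (mem_cl (by decide)), zc _ (mem_cl (by decide)), zc _ (mul_mem (mem_cl (by decide))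
          (pow_mem (ev_mem fun x hx => mem_cl (by revert x; decide)) _)), ?_⟩
        rw [map_pow, MulAut.conj_apply, zt, ← pow_mul, pow_eq_pow_iff_modEq, t_ord]
        interval_cases i <;> decide
    have h5 := congrArg (MulAut.conj g * α : MulAut Spor.HN) wt
    rw [map_pow, map_mul, map_one, h3, h4] at h5
    refine ⟨g, (e, i), ?_, h1, h2, h3, h4⟩
    interval_cases e <;> interval_cases i
    · simp
    · exact (z_ne (mem_bot.1 (kl0 _ _ ⊥ gam_iv (Rels.cons (by simpa [ev_cons, ev_nil, pow_two] using h5) gam_rel)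
        (by simp) _ (by simp)))).elim
    · exact (z_ne (mem_bot.1 (kl1 _ _ ⊥ gam_iv (Rels.cons (by simpa [ev_cons, ev_nil, mul_assoc] using h5) gam_rel)
        (by simp) _ (by simp)))).elim
    · simp
  · refine MulEquiv.toMonoidHom_injective (MonoidHom.eq_of_eqOn_dense gam_top ?_)
    rintro _ ⟨x, hx, rfl⟩
    simp only [L, List.mem_cons, List.not_mem_nil, or_false, Set.mem_setOf_eq] at hx
    show α _ = β _
    rcases hx with rfl | rfl | rfl | rfl | rfl | rfl | rfl <;>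
      simp only [i2, i4, i7, map_inv, a.1, a.2.1, a.2.2.1, a.2.2.2, b.1, b.2.1, b.2.2.1, b.2.2.2]

theorem out_eq : Nat.card (Out Spor.HN) = 2 := by
  have := fin
  refine card_out_eq_two out_le ?_
  have j1 : IvOK (sv gm oV) iv := ⟨rfl, fun x hx => ⟨(gam_iv.2 x hx).1, by
    rcases (show ([x, iv x], 0) ∈ R ∨ ([iv x, x], 0) ∈ R ∨ iv x = x ∧ (([x], 1) ∈ R ∨ nth [] oV x = []) by
      revert x; decide +kernel) with h | h | ⟨h', h | h⟩
    · exact eq_inv_of_mul_eq_one_right (by simpa [ev_cons, ev_nil] using oR _ h)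
    · exact eq_inv_of_mul_eq_one_left (by simpa [ev_cons, ev_nil] using oR _ h)
    · rw [h']; exact eq_inv_of_mul_eq_one_left (by simpa [ev_cons, ev_nil, pow_two] using oR _ h)
    · rw [h', sv, h, ev_nil, inv_one]⟩⟩
  obtain ⟨f, hf⟩ := gam_ex.choose_spec.2.2.2.2 _ _ j1 oR
  have h1 : f (gam 1) = gam 1 := (hf 1 (by decide)).trans ((ev_single gm 1).trans (gm_gam 1 (by decide)))
  have h3 : f (gam 3) = gam 3 := (hf 3 (by decide)).trans ((ev_single gm 3).trans (gm_gam 3 (by decide)))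
  have h6 : f (gam 6) = gam 6 ^ 2 := (hf 6 (by decide)).trans (by
    rw [pow_two, ← gm_gam 6 (by decide)]; exact congrArg _ (ev_single gm 6))
  have hi : Function.Injective f := inj_of_simple main.1 (g := ev gam [1, 1]) (by
    simpa only [ev_cons, ev_nil, map_mul, map_one, h1] using z_ne)
  refine ⟨MulEquiv.ofBijective f (Finite.injective_iff_bijective.1 hi), fun ⟨g, hg⟩ => ?_⟩
  have e : ∀ a, g * a * g⁻¹ = f a := fun a => DFunLike.congr_fun hg a
  obtain ⟨i, h⟩ := C_sq (mem_C (c := g) (mul_inv_eq_iff_eq_mul.1 ((e _).trans h1))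
    (mul_inv_eq_iff_eq_mul.1 ((e _).trans h3)))
  have a : gam 6 ^ 4 = gam 6 ^ 1 := by
    calc gam 6 ^ 4 = f (f (gam 6)) := by rw [h6, map_pow, h6, ← pow_mul]
      _ = g ^ 2 * gam 6 * (g ^ 2)⁻¹ := by rw [← e, ← e, pow_two]; group
      _ = _ := by rw [← h]; group
  rw [pow_eq_pow_iff_modEq, t_ord] at a
  exact absurd a (by decide)

end Cfsg.Lib.Comp.HN
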