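import Cfsg.Agent.Lib.Comp.HN.Q31

set_option maxRecDepth 100000
set_option Elab.async false

namespace Cfsg.Lib.Comp.HN

universe u

noncomputable def Q3_b7h : ℕ := (nat_lit 0x4000d13000991000000200d000d13000300200e00200c000100099200200e000200099200200e000300099100200d000200069f00200c00030012e20010ec000300200600084c00030005b400200800040005b2002008000100047d002006000200047d00200600040010cd0010e800040020020006a00001000478002002000200047800200200030004720020000004000470002000)

noncomputable def Q3_b7c : List ℕ := [(nat_lit 0x3500004500770200000200000600000200000600000600000600000200000600000200000600000600000600003d00004100003300000600000600001300000b000006000002000006000006000035005e1800003300000600000200000600000200000600000200000600000200000600000200000600000200000600003d004e0f00003b000008000002000002000006000a0500000000000000000000000200000600000200000600000200000600001d000029000002000006000002000006000002000006000002004f0f00000600000400000600002500002300000200000600000600000400000600000600000600000200000600000600000400000600000600000600001d00361400002300000600000600000600000600020500000000001b000008000002000002000006000a05000000000004000008000004000008000004000008000009000011000004000008000004000008000004000008000004004d0f00000800000400000800000100000700000200000800000800000400000800000800000800000200000800000800000400000800000800000800000d00381400000b000006000002000002000008001605000000000003000006000006000006000006000205000000000013)]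

theorem Q3_fin : finB 8192 Q3_n [1,2,3,4] 6300 (runH 8192 Q3_n (tbk 13 4 prs13 Q3_n 1024) iv Q3_R [] [[1,3,3,3,2],
 [3],
 [1,1]] 0 [(fun t => look Q3_b7h 64 t, Q3_b7c)]
  (apd [8,24,12,4,8,24,28,4,24,20,0,4,8,24,28,4,8,24,4,24,12,0,4,28,16,4,20,4,8,24,28,8,24,8,24,12,0,4,28,16,0,4,8,24,28,8,24,0,4,8,24,12,0,4,8,24,28,0,4,8]
 (apd [24,20,0,4,8,24,28,0,8,24,28,12,0,4,8,24,28,0,4,8,24,12,0,4,8,24,28,4,8,16,0,4,8,24,0,4,8,24,12,0,4,8,24,28,0,4,8,20,0,4,8,24,28,8,24,0,4,12,0,4]
 (apd [8,24,28,0,4,8,16,0,4,8,24,8,12,0,4,8,24,28,0,28,20,4,8,24,28,0,4,12,0,4,8,24,28,16,4,24,20,4,8,28,0,4,20,0,4,28,12,0,4,28,16,4,24,8,0,4,2,4,28,0]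
 (apd [4,12,4,8,24,0,4,8,24,12,0,4,8,24,28,16,0,4,8,24,8,24,0,4,28,12,0,4,8,24,28,0,4,8,24,16,4,8,24,0,4,8,24,0,4,8,0,4,8,24,12,0,4,8,24,28,0,4,8,24]
 (apd [28,0,8,28,12,0,4,8,24,28,0,4,8,24,28,4,8,0,4,8,20,0,4,8,24,28,0,4,8,24,28,0,4,8,24,28,0,4,8,0,4,8,28,12,0,4,8,24,28,0,4,8,24,28,0,4,8,24,0,28]
 (apd [16,0,4,8,24,28,0,4,8,24,28,0,4,8,24,28,4,8,12,0,4,8,24,28,0,4,8,24,28,0,4,8,24,28,0,4,8,28,0,28,12,0,4,8,24,28,0,4,8,24,28,0,4,8,24,28,0,8,24,28]
 [0,4,8,0,4,12,0,4,8,24,28,0,4,8,24,28,0,4,8,24,28,0,8,28,12,0,4,8,24,28,4,8,24,16,8]))))))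
  Q3_K0) = true := by decide +kernel

theorem Q3_idx : Idx.{u} iv (Q3_R ++ []) [[1,3,3,3,2],
 [3],
 [1,1]] [1,2,3,4] 6300 :=
  Reach.idx Q3_n_ok (reach_runH Q3_n_ok (tbk_eq tr13 (by norm_num) (by norm_num) (by norm_num) Q3_n_ok) Q3_n_rel Q3_K0_reach _ _) Q3_fin (by norm_num)

end Cfsg.Lib.Comp.HN
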